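import Mathlib
import Cfsg.Agent.Lib.Chars.Completeness
import Cfsg.Agent.Lib.Chars.Ops
import Cfsg.Agent.Lib.Clifford.Correspondence
import Cfsg.Agent.Lib.CharExt.Characters

/-!
# Characters of a group with a cyclic quotient

`ι` embeds `H` as the kernel of the linear character `lam` of `W`, whose value at `t` is a
primitive `N`-th root of unity.  `cosInner ι t r A B` is the inner product of `A` and `B` over the
coset `H t ^ r`.
-/

set_option autoImplicit false

namespace Cfsg.Agent.Lib.SylowCorr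

open Cfsg
open Cfsg.Agent.Lib
open scoped ComplexConjugate

variable {W : Type*} [Group W] [Finite W] {H : Type*} [Group H] [Finite H]

/-- A cyclic quotient with a chosen linear character. -/
structure Dat (ι : H →* W) (t : W) (lam : W →* ℂˣ) (N : ℕ) : Prop where
  pos : 0 < N
  inj : Function.Injective ι
  ker : ∀ w, lam w = 1 ↔ w ∈ ι.range
  prim : IsPrimitiveRoot (lam t : ℂ) N
  gen : ∀ w, ∃ (h : H) (j : ℕ), w = ι h * t ^ j

/-- `χ` is fixed by conjugation by `t`. -/
def IsFix (ι : H →* W) (t : W) (χ : H → ℂ) : Prop :=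
  ∀ h h' : H, ι h' = t * ι h * t⁻¹ → χ h' = χ h

/-- The product with a power of a linear character. -/
def twist (lam : W →* ℂˣ) (j : ℕ) (A : W → ℂ) : W → ℂ := fun w => A w * (lam w : ℂ) ^ j

/-- The inner product over a coset. -/
noncomputable def cosInner (ι : H →* W) (t : W) (r : ℕ) (A B : W → ℂ) : ℂ :=
  haveI := Fintype.ofFinite H
  (Nat.card H : ℂ)⁻¹ * ∑ h : H, A (ι h * t ^ r) * conj (B (ι h * t ^ r))

theorem cosInner_eq [Fintype H] (ι : H →* W) (t : W) (r : ℕ) (A B : W → ℂ) :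
    cosInner ι t r A B =
      (Nat.card H : ℂ)⁻¹ * ∑ h : H, A (ι h * t ^ r) * conj (B (ι h * t ^ r)) := by
  unfold cosInner
  congr!

theorem cosInner_zero [Fintype H] (ι : H →* W) (t : W) (A B : W → ℂ) :
    cosInner ι t 0 A B = classInner (fun h => A (ι h)) (fun h => B (ι h)) := by
  rw [cosInner_eq, classInner]
  simp

theorem isCharacter_twist (lam : W →* ℂˣ) (j : ℕ) {A : W → ℂ} (hA : IsCharacter W A) :
    IsCharacter W (twist lam j A) := by
  have := Chars.isCharacter_mul hA (Chars.isCharacter_hom (lam ^ j))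
  refine (congrArg (IsCharacter W) (funext fun w => ?_)).mp this
  show A w * (((lam ^ j) w : ℂˣ) : ℂ) = A w * (lam w : ℂ) ^ j
  rw [MonoidHom.pow_apply, Units.val_pow_eq_pow_val]

theorem isIrr_twist (lam : W →* ℂˣ) (j : ℕ) {A : W → ℂ} (hA : IsIrrCharacter W A) :
    IsIrrCharacter W (twist lam j A) := by
  have := Chars.isIrrCharacter_hom_mul (lam ^ j) hA
  refine (congrArg (IsIrrCharacter W) (funext fun w => ?_)).mp this
  show (((lam ^ j) w : ℂˣ) : ℂ) * A w = A w * (lam w : ℂ) ^ j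
  rw [MonoidHom.pow_apply, Units.val_pow_eq_pow_val, mul_comm]

/-- Twisting an irreducible character. -/
def twistIrr (lam : W →* ℂˣ) (j : ℕ) (θ : IrrCharacter W) : IrrCharacter W :=
  ⟨twist lam j (θ : W → ℂ), isIrr_twist lam j θ.2⟩

@[simp] theorem twistIrr_coe (lam : W →* ℂˣ) (j : ℕ) (θ : IrrCharacter W) :
    (twistIrr lam j θ : W → ℂ) = twist lam j (θ : W → ℂ) := rfl

namespace Dat

variable {ι : H →* W} {t : W} {lam : W →* ℂˣ} {N : ℕ} (d : Dat ι t lam N)

include d

theorem lam_ι (h : H) : lam (ι h) = 1 := (d.ker _).2 ⟨h, rfl⟩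

theorem val_ι_mul (h : H) (k : ℕ) : (lam (ι h * t ^ k) : ℂ) = (lam t : ℂ) ^ k := by
  rw [map_mul, d.lam_ι, one_mul, map_pow, Units.val_pow_eq_pow_val]

theorem twist_ι (j : ℕ) (A : W → ℂ) (h : H) : twist lam j A (ι h) = A (ι h) := by
  simp [twist, d.lam_ι]

theorem norm_z : ‖(lam t : ℂ)‖ = 1 :=
  Complex.norm_eq_one_of_pow_eq_one d.prim.pow_eq_one d.pos.ne'

theorem mul_conj_z (k : ℕ) : (lam t : ℂ) ^ k * conj ((lam t : ℂ) ^ k) = 1 := by
  rw [Complex.mul_conj, Complex.normSq_eq_norm_sq, norm_pow, d.norm_z]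
  simp

theorem bijective (r : ℕ) :
    Function.Bijective fun x : H × Fin N => ι x.1 * t ^ r * t ^ (x.2 : ℕ) := by
  have hval : ∀ (h : H) (i : ℕ),
      (lam (ι h * t ^ r * t ^ i) : ℂ) = (lam t : ℂ) ^ r * (lam t : ℂ) ^ i := fun h i => by
    rw [mul_assoc, ← pow_add, d.val_ι_mul, pow_add]
  constructor
  · rintro ⟨h, i⟩ ⟨h', i'⟩ e
    have e1 := congrArg (fun w => (lam w : ℂ)) e
    simp only [hval] at e1
    have e2 := mul_left_cancel₀ (pow_ne_zero r (Units.ne_zero (lam t))) e1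
    obtain rfl : i = i' := Fin.ext (d.prim.pow_inj i.2 i'.2 e2)
    simp only [mul_left_inj] at e
    rw [d.inj e]
  · intro w
    obtain ⟨h, j, rfl⟩ := d.gen w
    set i := (j + r * (N - 1)) % N with hi
    have hz : (lam t : ℂ) ^ r * (lam t : ℂ) ^ i = (lam t : ℂ) ^ j := by
      rw [← pow_add]
      refine pow_eq_pow_of_modEq ?_ d.prim.pow_eq_one
      have h1 : r + i ≡ r + (j + r * (N - 1)) [MOD N] := (Nat.mod_modEq _ _).add_left _
      have h2 : r + (j + r * (N - 1)) = r * N + j := by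
        have := d.pos
        obtain ⟨M, rfl⟩ : ∃ M, N = M + 1 := ⟨N - 1, by omega⟩
        simp; ring
      rw [h2] at h1
      exact h1.trans (by simp [Nat.ModEq])
    have hk : ι h * t ^ j * (t ^ r * t ^ i)⁻¹ ∈ ι.range := by
      rw [← d.ker]
      apply Units.ext
      simp only [map_mul, map_inv, d.lam_ι, one_mul, map_pow, Units.val_mul, Units.val_inv_eq_inv_val,
        Units.val_pow_eq_pow_val, Units.val_one, hz]
      exact mul_inv_cancel₀ (pow_ne_zero _ (Units.ne_zero _))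
    obtain ⟨h', hh'⟩ := hk
    exact ⟨(h', ⟨i, Nat.mod_lt _ d.pos⟩), by simp only; rw [hh', mul_assoc _ (t ^ r)]; group⟩

theorem card_eq : Nat.card W = N * Nat.card H := by
  rw [← Nat.card_congr (Equiv.ofBijective _ (d.bijective 0)), Nat.card_prod, Nat.card_fin, mul_comm]

theorem sum_eq [Fintype W] [Fintype H] (r : ℕ) (F : W → ℂ) :
    ∑ w, F w = ∑ i : Fin N, ∑ h : H, F (ι h * t ^ r * t ^ (i : ℕ)) := by
  rw [Finset.sum_comm]
  exact ((Fintype.sum_equiv (Equiv.ofBijective _ (d.bijective r))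
    (fun x => F (ι x.1 * t ^ r * t ^ (x.2 : ℕ))) F fun _ => rfl).symm).trans
    (Fintype.sum_prod_type _)

theorem sum_root (i : Fin N) :
    ∑ j ∈ Finset.range N, ((lam t : ℂ) ^ (i : ℕ)) ^ j = if (i : ℕ) = 0 then (N : ℂ) else 0 := by
  split_ifs with h
  · simp [h]
  · have h1 : (lam t : ℂ) ^ (i : ℕ) ≠ 1 := d.prim.pow_ne_one_of_pos_of_lt h i.2
    have h2 := geom_sum_mul ((lam t : ℂ) ^ (i : ℕ)) N
    rw [pow_right_comm _ _ N, d.prim.pow_eq_one, one_pow, sub_self] at h2
    exact (mul_eq_zero.1 h2).resolve_right (sub_ne_zero.2 h1)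

theorem cos_eq_sum [Fintype W] (r : ℕ) (A B : W → ℂ) :
    cosInner ι t r A B =
      ∑ j ∈ Finset.range N, conj ((lam t : ℂ) ^ r) ^ j * classInner (twist lam j A) B := by
  haveI := Fintype.ofFinite H
  have e : ∀ j, conj ((lam t : ℂ) ^ r) ^ j * classInner (twist lam j A) B =
      (Nat.card W : ℂ)⁻¹ * ∑ w, A w * conj (B w) * ((lam w : ℂ) * conj ((lam t : ℂ) ^ r)) ^ j := by
    intro j
    rw [classInner, mul_left_comm, Finset.mul_sum]
    refine congrArg _ (Finset.sum_congr rfl fun w _ => ?_)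
    simp only [twist]
    ring
  rw [Finset.sum_congr rfl fun j _ => e j, ← Finset.mul_sum, Finset.sum_comm,
    d.sum_eq r]
  simp only [← Finset.mul_sum]
  have e2 : ∀ (h : H) (i : Fin N),
      (lam (ι h * t ^ r * t ^ (i : ℕ)) : ℂ) * conj ((lam t : ℂ) ^ r) = (lam t : ℂ) ^ (i : ℕ) := by
    intro h i
    rw [mul_assoc (ι h), ← pow_add, d.val_ι_mul, pow_add, mul_right_comm, d.mul_conj_z, one_mul]
  simp only [e2, d.sum_root]
  rw [Finset.sum_eq_single (⟨0, d.pos⟩ : Fin N) (fun i _ hi => ?_)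
    (fun h => absurd (Finset.mem_univ _) h)]
  · simp only [if_pos, pow_zero, mul_one, ← Finset.sum_mul]
    rw [cosInner_eq, d.card_eq, Nat.cast_mul, mul_inv]
    have : (N : ℂ) ≠ 0 := Nat.cast_ne_zero.2 d.pos.ne'
    field_simp
  · have : (i : ℕ) ≠ 0 := fun h => hi (Fin.ext h)
    simp [this]

theorem exists_coef {A B : W → ℂ} (hA : IsCharacter W A) (hB : IsCharacter W B) :
    ∃ n : ℕ → ℕ, ∀ r, cosInner ι t r A B =
      ∑ j ∈ Finset.range N, conj ((lam t : ℂ) ^ r) ^ j * (n j : ℂ) := by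
  haveI := Fintype.ofFinite W
  choose n hn using fun j =>
    Chars.isCharacter_classInner_nat (isCharacter_twist lam j hA) hB
  exact ⟨n, fun r => by simp only [d.cos_eq_sum r A B, hn]⟩

theorem twist_orth [Fintype W] [Fintype H] (θ : IrrCharacter W)
    (h : IsIrrCharacter H (fun x => (θ : W → ℂ) (ι x))) {j : ℕ} (hj : j < N) (hj0 : j ≠ 0) :
    classInner (twist lam j (θ : W → ℂ)) (θ : W → ℂ) = 0 := by
  choose n hn using fun i =>
    Chars.isCharacter_classInner_nat (isCharacter_twist lam i (Chars.irr_isCharacter θ))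
      (Chars.irr_isCharacter θ)
  have e := d.cos_eq_sum 0 (θ : W → ℂ) (θ : W → ℂ)
  rw [cosInner_zero, show classInner (fun x => (θ : W → ℂ) (ι x)) (fun x => (θ : W → ℂ) (ι x)) = 1
    from Chars.classInner_irr_self ⟨_, h⟩] at e
  simp only [pow_zero, map_one, one_pow, one_mul, hn] at e
  have e' : ∑ i ∈ Finset.range N, n i = 1 := by exact_mod_cast e.symm
  have h0 : n 0 = 1 := by
    have := hn 0
    rw [show twist lam 0 (θ : W → ℂ) = (θ : W → ℂ) from funext fun w => by simp [twist],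
      Chars.classInner_irr_self] at this
    exact_mod_cast this.symm
  rw [← Finset.add_sum_erase _ _ (Finset.mem_range.2 d.pos), h0] at e'
  have h2 : n j = 0 := Finset.sum_eq_zero_iff.1 (by omega : ∑ i ∈ (Finset.range N).erase 0, n i = 0) j
    (Finset.mem_erase.2 ⟨hj0, Finset.mem_range.2 hj⟩)
  rw [hn, h2, Nat.cast_zero]

theorem cos_self (θ : IrrCharacter W) (h : IsIrrCharacter H (fun x => (θ : W → ℂ) (ι x))) (r : ℕ) :
    cosInner ι t r (θ : W → ℂ) (θ : W → ℂ) = 1 := by
  haveI := Fintype.ofFinite W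
  haveI := Fintype.ofFinite H
  rw [d.cos_eq_sum, Finset.sum_eq_single 0
    (fun j hj hj0 => by rw [d.twist_orth θ h (Finset.mem_range.1 hj) hj0, mul_zero])
    (fun h => absurd (Finset.mem_range.2 d.pos) h)]
  rw [show twist lam 0 (θ : W → ℂ) = (θ : W → ℂ) from funext fun w => by simp [twist],
    Chars.classInner_irr_self]
  simp

theorem restrict_irr (θ : IrrCharacter W) {x : H} (hx : (θ : W → ℂ) (ι x * t) ≠ 0) :
    IsIrrCharacter H (fun x => (θ : W → ℂ) (ι x)) := by
  haveI := Fintype.ofFinite W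
  haveI := Fintype.ofFinite H
  rw [Chars.isIrrCharacter_iff_classInner_eq_one
    (Chars.isCharacter_comp ι (Chars.irr_isCharacter θ))]
  rw [← cosInner_zero ι t, d.cos_eq_sum, Finset.sum_eq_single 0 ?_
    (fun h => absurd (Finset.mem_range.2 d.pos) h)]
  · rw [show twist lam 0 (θ : W → ℂ) = (θ : W → ℂ) from funext fun w => by simp [twist],
      Chars.classInner_irr_self]
    simp
  · intro j hj hj0
    have hne : twistIrr lam j θ ≠ θ := by
      intro e
      have := congrFun (congrArg Subtype.val e) (ι x * t)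
      simp only [twistIrr_coe, twist] at this
      have hz : (lam (ι x * t) : ℂ) = (lam t : ℂ) := by
        have := d.val_ι_mul x 1
        rwa [pow_one, pow_one] at this
      rw [hz, mul_eq_left₀ hx] at this
      exact d.prim.pow_ne_one_of_pos_of_lt hj0 (Finset.mem_range.1 hj) this
    have := Chars.classInner_irr_of_ne hne
    rw [twistIrr_coe] at this
    rw [this, mul_zero]

theorem exists_ne_zero (θ : IrrCharacter W) (h : IsIrrCharacter H (fun x => (θ : W → ℂ) (ι x))) :
    ∃ x : H, (θ : W → ℂ) (ι x * t) ≠ 0 := by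
  haveI := Fintype.ofFinite H
  by_contra hall
  push Not at hall
  have := d.cos_self θ h 1
  rw [cosInner_eq] at this
  simp [hall] at this

theorem cos_eq_zero_of_orth [Fintype H] {A B : W → ℂ} (hA : IsCharacter W A) (hB : IsCharacter W B)
    (h : classInner (fun x => A (ι x)) (fun x => B (ι x)) = 0) (r : ℕ) :
    cosInner ι t r A B = 0 := by
  obtain ⟨n, hn⟩ := d.exists_coef hA hB
  have e := hn 0
  rw [cosInner_zero, h] at e
  simp only [pow_zero, map_one, one_pow, one_mul] at e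
  have e' : ∑ i ∈ Finset.range N, n i = 0 := by exact_mod_cast e.symm
  rw [hn r]
  exact Finset.sum_eq_zero fun j hj => by
    rw [Finset.sum_eq_zero_iff.1 e' j hj, Nat.cast_zero, mul_zero]

theorem exists_twist_of_restrict (θ θ' : IrrCharacter W)
    (h : IsIrrCharacter H (fun x => (θ : W → ℂ) (ι x)))
    (e : ∀ x, (θ' : W → ℂ) (ι x) = (θ : W → ℂ) (ι x)) :
    ∃ j < N, θ' = twistIrr lam j θ := by
  haveI := Fintype.ofFinite W
  haveI := Fintype.ofFinite H
  by_contra hall
  push Not at hall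
  have := d.cos_eq_sum 0 (θ : W → ℂ) (θ' : W → ℂ)
  rw [cosInner_zero, funext e, show classInner (fun x => (θ : W → ℂ) (ι x))
    (fun x => (θ : W → ℂ) (ι x)) = 1 from Chars.classInner_irr_self ⟨_, h⟩,
    Finset.sum_eq_zero] at this
  · exact one_ne_zero this
  intro j hj
  have h2 := Chars.classInner_irr_of_ne (Ne.symm (hall j (Finset.mem_range.1 hj)))
  rw [twistIrr_coe] at h2
  rw [h2, mul_zero]

theorem cos_twist_right (A B : W → ℂ) (j : ℕ) :
    cosInner ι t 1 A (twist lam j B) = conj ((lam t : ℂ) ^ j) * cosInner ι t 1 A B := by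
  haveI := Fintype.ofFinite H
  rw [cosInner_eq, cosInner_eq, mul_left_comm, Finset.mul_sum _ _ (conj _)]
  refine congrArg _ (Finset.sum_congr rfl fun h _ => ?_)
  simp only [twist, d.val_ι_mul, map_mul (starRingEnd ℂ), pow_one]
  have : (lam (ι h * t) : ℂ) = (lam t : ℂ) := by rw [map_mul, d.lam_ι, one_mul]
  rw [this]
  ring

theorem twistIrr_injOn (θ : IrrCharacter W) {x : H} (hx : (θ : W → ℂ) (ι x * t) ≠ 0) {i j : ℕ}
    (hi : i < N) (hj : j < N) (e : twistIrr lam i θ = twistIrr lam j θ) : i = j := by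
  have := congrFun (congrArg Subtype.val e) (ι x * t)
  simp only [twistIrr_coe, twist] at this
  have hz : (lam (ι x * t) : ℂ) = (lam t : ℂ) := by
    have := d.val_ι_mul x 1
    rwa [pow_one, pow_one] at this
  rw [hz] at this
  exact d.prim.pow_inj hi hj (mul_left_cancel₀ hx this)

omit d in
/-- The part of `A` on the coset of `t`. -/
noncomputable def cut (lam : W →* ℂˣ) (t : W) (A : W → ℂ) : W → ℂ :=
  fun w => if (lam w : ℂ) = (lam t : ℂ) then A w else 0

theorem classInner_cut [Fintype W] (A B : W → ℂ) :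
    classInner (cut lam t A) B = (N : ℂ)⁻¹ * cosInner ι t 1 A B := by
  haveI := Fintype.ofFinite H
  rw [classInner, d.sum_eq 1, cosInner_eq, d.card_eq, Nat.cast_mul, mul_inv, mul_assoc]
  refine congrArg _ (congrArg _ ?_)
  have e2 : ∀ (h : H) (i : Fin N),
      (lam (ι h * t ^ 1 * t ^ (i : ℕ)) : ℂ) = (lam t : ℂ) * (lam t : ℂ) ^ (i : ℕ) := by
    intro h i
    rw [mul_assoc (ι h), ← pow_add, d.val_ι_mul, pow_add, pow_one]
  rw [Finset.sum_eq_single (⟨0, d.pos⟩ : Fin N) (fun i _ hi => ?_)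
    (fun h => absurd (Finset.mem_univ _) h)]
  · refine Finset.sum_congr rfl fun h _ => ?_
    simp [cut, map_mul, d.lam_ι]
  · refine Finset.sum_eq_zero fun h _ => ?_
    have hi0 : (i : ℕ) ≠ 0 := fun h => hi (Fin.ext h)
    rw [cut, if_neg, zero_mul]
    rw [e2]
    intro e
    exact d.prim.pow_ne_one_of_pos_of_lt hi0 i.2
      ((mul_eq_left₀ (Units.ne_zero (lam t))).1 e)

omit d in
theorem isClassFunction_cut {A : W → ℂ} (hA : IsClassFunction W A) :
    IsClassFunction W (cut lam t A) := by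
  intro g h
  have : lam (h * g * h⁻¹) = lam g := by simp [mul_comm]
  simp only [cut, this, hA g h]

/-- Parseval on the coset of `t`. -/
theorem parseval {A A' : W → ℂ} (hA : IsClassFunction W A) (hA' : IsClassFunction W A') :
    ∑ θ : IrrCharacter W, cosInner ι t 1 A (θ : W → ℂ) * conj (cosInner ι t 1 A' (θ : W → ℂ))
      = (N : ℂ) * cosInner ι t 1 A A' := by
  haveI := Fintype.ofFinite W
  haveI := Fintype.ofFinite H
  have e := Chars.classInner_eq_sum_mul_conj (isClassFunction_cut (lam := lam) (t := t) hA)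
    (isClassFunction_cut (lam := lam) (t := t) hA')
  simp only [d.classInner_cut, map_mul, map_inv₀, map_natCast] at e
  have e' : cosInner ι t 1 A (cut lam t A') = cosInner ι t 1 A A' := by
    rw [cosInner_eq, cosInner_eq]
    refine congrArg _ (Finset.sum_congr rfl fun h _ => ?_)
    simp [cut, map_mul, d.lam_ι]
  rw [e'] at e
  have hN : (N : ℂ) ≠ 0 := Nat.cast_ne_zero.2 d.pos.ne'
  calc _ = (N : ℂ) * (N : ℂ) * ∑ θ : IrrCharacter W,
        (N : ℂ)⁻¹ * cosInner ι t 1 A (θ : W → ℂ) *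
          ((N : ℂ)⁻¹ * conj (cosInner ι t 1 A' (θ : W → ℂ))) := by
        rw [Finset.mul_sum]
        refine Finset.sum_congr rfl fun θ _ => ?_
        field_simp
    _ = _ := by rw [← e]; field_simp

/-- Invariant irreducible characters extend. -/
theorem exists_ext (χ : IrrCharacter H) (hinv : IsFix ι t (χ : H → ℂ)) :
    ∃ θ : IrrCharacter W, ∀ x, (θ : W → ℂ) (ι x) = (χ : H → ℂ) x := by
  classical
  haveI hn : ι.range.Normal := ⟨fun w hw g => by
    rw [← d.ker] at hw ⊢
    simp [hw]⟩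
  let e : H ≃* ι.range := MonoidHom.ofInjective d.inj
  let ϑ : ι.range → ℂ := fun y => (χ : H → ℂ) (e.symm y)
  have hϑ : IsIrrCharacter ι.range ϑ := Clifford.isIrrCharacter_comp_equiv e.symm χ.2
  obtain ⟨n, σ, hσ, hσϑ⟩ := hϑ
  haveI := hσ
  have hcl := Chars.irr_isClassFunction χ
  have hconj : ∀ (g : W) (h h' : H), ι h' = g * ι h * g⁻¹ → (χ : H → ℂ) h' = (χ : H → ℂ) h := by
    intro g
    obtain ⟨y, j, rfl⟩ := d.gen g
    induction j with
    | zero =>
      intro h h' e1
      rw [pow_zero, mul_one, ← map_inv, ← map_mul, ← map_mul] at e1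
      rw [d.inj e1]
      exact hcl h y
    | succ j ih =>
      intro h h' e1
      obtain ⟨h₁, hh₁⟩ := hn.conj_mem (ι h) ⟨h, rfl⟩ t
      rw [← hinv h h₁ hh₁]
      refine ih h₁ h' ?_
      rw [e1, hh₁, pow_succ]
      group
  have hsurj : Function.Surjective (CharExt.projG ι.range σ) :=
    CharExt.projG_surjective_of_char_invariant ι.range σ ϑ hσϑ fun g x => by
      show (χ : H → ℂ) _ = (χ : H → ℂ) _
      refine hconj g _ _ ?_
      have h1 : ∀ y : ι.range, ι (e.symm y) = (y : W) := fun y =>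
        congrArg Subtype.val (e.apply_symm_apply y)
      rw [h1, h1]
  haveI : IsCyclic (W ⧸ ι.range) := ⟨⟨(t : W ⧸ ι.range), fun q => by
    induction q using QuotientGroup.induction_on with | H w => ?_
    obtain ⟨y, j, rfl⟩ := d.gen w
    exact ⟨(j : ℤ), by
      have hy : ((ι y : W) : W ⧸ ι.range) = 1 := (QuotientGroup.eq_one_iff _).2 ⟨y, rfl⟩
      simp [hy]⟩⟩⟩
  obtain ⟨θ, hθ, hθe⟩ := CharExt.exists_irrCharacter_of_extension ι.range σ ϑ hσϑ
    (CharExt.exists_extension_of_isCyclic ι.range σ hsurj)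
  refine ⟨⟨θ, hθ⟩, fun x => ?_⟩
  show θ (ι x) = _
  rw [show ι x = ((e x : ι.range) : W) from rfl, hθe (e x)]
  simp [ϑ]

theorem isFix_restrict {A : W → ℂ} (hA : IsClassFunction W A) :
    IsFix ι t (fun x => A (ι x)) := fun h h' e => by
  show A (ι h') = A (ι h)
  rw [e]; exact hA _ _

end Dat

end Cfsg.Agent.Lib.SylowCorr
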