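import Mathlib
import Cfsg.Agent.Lib.SylowCorr.Cyclic
import Cfsg.Agent.Lib.KGV.CycInt

/-!
# The correspondence of characters for one operator

`t` acts on `H`, the subgroup `Q` is normal of index prime to `p` in `H`, and `D` is the
subgroup of the elements whose commutator with `t` lies in `Q`.
-/

set_option autoImplicit false

namespace Cfsg.Agent.Lib.SylowCorr

open Cfsg
open Cfsg.Agent.Lib
open scoped ComplexConjugate

open Polynomial in
/-- An integer polynomial vanishing at a primitive root of unity of prime power order has its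
value at one divisible by the prime. -/
theorem dvd_eval_one {p a : ℕ} (hp : p.Prime) {z : ℂ} (hz : IsPrimitiveRoot z (p ^ a))
    (P : ℤ[X]) (h : aeval z P = 0) : (p : ℤ) ∣ P.eval 1 := by
  haveI := Fact.mk hp
  rcases a with _ | k
  · rw [pow_zero, IsPrimitiveRoot.one_right_iff] at hz
    subst hz
    rw [← map_one (algebraMap ℤ ℂ), aeval_algebraMap_apply_eq_algebraMap_eval] at h
    rw [show P.eval 1 = 0 from by simpa using h]
    exact dvd_zero _
  · have hpos : 0 < p ^ (k + 1) := pow_pos hp.pos _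
    have hdvd : cyclotomic (p ^ (k + 1)) ℤ ∣ P := by
      rw [cyclotomic_eq_minpoly hz hpos]
      exact minpoly.isIntegrallyClosed_dvd (hz.isIntegral hpos) h
    have := eval_dvd (x := (1 : ℤ)) hdvd
    rwa [eval_one_cyclotomic_prime_pow] at this

theorem conj_root_eq {N : ℕ} (hN : 0 < N) {z : ℂ} (hz : z ^ N = 1) : conj z = z ^ (N - 1) := by
  have h1 : ‖z‖ = 1 := Complex.norm_eq_one_of_pow_eq_one hz hN.ne'
  rw [← Complex.inv_eq_conj h1]
  refine inv_eq_of_mul_eq_one_right ?_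
  rw [← pow_succ', Nat.sub_add_cancel hN, hz]

open Polynomial in
theorem sum_natCast_eq_zero {p a : ℕ} (hp : p.Prime) {z : ℂ} (hz : IsPrimitiveRoot z (p ^ a))
    (n : ℕ → ℕ) (h : ∑ j ∈ Finset.range (p ^ a), conj z ^ j * (n j : ℂ) = 0) :
    p ∣ ∑ j ∈ Finset.range (p ^ a), n j := by
  let P : ℤ[X] := ∑ j ∈ Finset.range (p ^ a), X ^ ((p ^ a - 1) * j) * C (n j : ℤ)
  have hP : aeval z P = 0 := by
    rw [← h]
    simp [P, map_sum, conj_root_eq (pow_pos hp.pos a) hz.pow_eq_one, pow_mul]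
  have := dvd_eval_one hp hz P hP
  simp only [P, eval_finsetSum, eval_mul, eval_pow, eval_X, one_pow, eval_C, one_mul] at this
  exact_mod_cast this

open Polynomial in
theorem sum_natCast_eq_pm_one {p a : ℕ} [Fact p.Prime] {z : ℂ} (hz : IsPrimitiveRoot z (p ^ a))
    (n : ℕ → ℕ) {b : ℂ} (hb : b = ∑ j ∈ Finset.range (p ^ a), conj z ^ j * (n j : ℂ))
    (h : b * conj b = 1) :
    ((∑ j ∈ Finset.range (p ^ a), n j : ℕ) : ZMod p) = 1 ∨
      ((∑ j ∈ Finset.range (p ^ a), n j : ℕ) : ZMod p) = -1 := by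
  have hp : p.Prime := Fact.out
  let P : ℤ[X] := (∑ j ∈ Finset.range (p ^ a), X ^ ((p ^ a - 1) * j) * C (n j : ℤ)) *
    (∑ j ∈ Finset.range (p ^ a), X ^ j * C (n j : ℤ)) - 1
  have hP : aeval z P = 0 := by
    have h' : conj b = ∑ j ∈ Finset.range (p ^ a), z ^ j * (n j : ℂ) := by
      simp [hb, map_sum]
    rw [h', hb, conj_root_eq (pow_pos hp.pos a) hz.pow_eq_one] at h
    simp [P, map_sum, pow_mul, h]
  have := dvd_eval_one hp hz P hP
  simp only [P, eval_sub, eval_mul, eval_finsetSum, eval_pow, eval_X, one_pow, eval_C, one_mul,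
    eval_one] at this
  have h2 := (ZMod.intCast_zmod_eq_zero_iff_dvd _ p).2 this
  push_cast at h2
  refine mul_self_eq_one_iff.1 ?_
  push_cast
  linear_combination h2

variable {Γ : Type*} [Group Γ] [Finite Γ] {H : Type*} [Group H] [Finite H]
  {D : Type*} [Group D] [Finite D] {Q : Subgroup Γ} [Q.Normal]

/-- The hypotheses of one step. -/
structure Setting (p a : ℕ) (ι : H →* Γ) (κ : D →* H) (t : Γ) (lam : Γ →* ℂˣ)
    (Q : Subgroup Γ) : Prop where
  prime : p.Prime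
  dat : Dat ι t lam (p ^ a)
  tpow : t ^ p ^ a = 1
  inj : Function.Injective κ
  mem_iff : ∀ h, h ∈ κ.range ↔ t * ι h * t⁻¹ * (ι h)⁻¹ ∈ Q
  exp : ∃ m : ℕ, ¬ p ∣ m ∧ ∀ h, ι h ^ m ∈ Q

/-- The elements centralising `t` modulo `Q`. -/
def fixPre (Q : Subgroup Γ) [Q.Normal] (t : Γ) : Subgroup Γ :=
  (Subgroup.centralizer ({(t : Γ ⧸ Q)} : Set (Γ ⧸ Q))).comap (QuotientGroup.mk' Q)

omit [Finite Γ] in
theorem mem_fixPre {t g : Γ} : g ∈ fixPre Q t ↔ t * g * t⁻¹ * g⁻¹ ∈ Q := by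
  rw [fixPre, Subgroup.mem_comap, Subgroup.mem_centralizer_singleton_iff, ← QuotientGroup.eq_one_iff]
  simp only [QuotientGroup.mk'_apply, QuotientGroup.mk_mul, QuotientGroup.mk_inv]
  rw [mul_inv_eq_one, mul_inv_eq_iff_eq_mul]
  exact eq_comm

omit [Finite Γ] in
theorem self_mem_fixPre (t : Γ) : t ∈ fixPre Q t := by
  rw [mem_fixPre]; simp

namespace Setting

variable {p a : ℕ} {ι : H →* Γ} {κ : D →* H} {t : Γ} {lam : Γ →* ℂˣ}
  (S : Setting p a ι κ t lam Q)

include S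

theorem range_iff (h : H) : h ∈ κ.range ↔ ι h ∈ fixPre Q t := by
  rw [S.mem_iff, mem_fixPre]

/-- The embedding of `D`. -/
noncomputable def eD : D →* fixPre Q t :=
  (ι.comp κ).codRestrict (fixPre Q t) fun c => (S.range_iff (κ c)).1 ⟨c, rfl⟩

@[simp] theorem eD_coe (c : D) : ((S.eD c : fixPre Q t) : Γ) = ι (κ c) := rfl

theorem exists_split {g : Γ} (hg : g ∈ fixPre Q t) : ∃ (c : D) (j : ℕ), g = ι (κ c) * t ^ j := by
  obtain ⟨h, j, rfl⟩ := S.dat.gen g
  have : ι h ∈ fixPre Q t :=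
    (Subgroup.mul_mem_cancel_right _ (pow_mem (self_mem_fixPre t) j)).1 hg
  obtain ⟨c, rfl⟩ := (S.range_iff h).2 this
  exact ⟨c, j, rfl⟩

theorem datE :
    Dat S.eD (⟨t, self_mem_fixPre t⟩ : fixPre Q t) (lam.comp (fixPre Q t).subtype) (p ^ a) where
  pos := S.dat.pos
  inj x y e := S.inj (S.dat.inj (congrArg Subtype.val e))
  prim := S.dat.prim
  gen w := by
    obtain ⟨c, j, hc⟩ := S.exists_split w.2
    exact ⟨c, j, Subtype.ext (by simp [hc])⟩
  ker w := by
    rw [MonoidHom.comp_apply, Subgroup.coe_subtype]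
    constructor
    · intro e
      obtain ⟨h, hh⟩ := (S.dat.ker _).1 e
      obtain ⟨c, rfl⟩ := (S.range_iff h).2 (hh ▸ w.2)
      exact ⟨c, Subtype.ext hh⟩
    · rintro ⟨c, rfl⟩
      exact (S.dat.ker _).2 ⟨κ c, rfl⟩

/-- Conjugates in `D t` of elements of `D t` come from `D`. -/
theorem mem_range_of_conj {y : H} {c c' : D}
    (h : ι y * (ι (κ c) * t) * (ι y)⁻¹ = ι (κ c') * t) : y ∈ κ.range := by
  obtain ⟨m, hpm, hm⟩ := S.exp
  have hcop : (p ^ a).Coprime m := ((S.prime.coprime_iff_not_dvd).2 hpm).pow_left a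
  obtain ⟨k, hk1, hk2⟩ : ∃ k : ℕ, k ≡ 1 [MOD p ^ a] ∧ k ≡ 0 [MOD m] :=
    ⟨_, (Nat.chineseRemainder hcop 1 0).2.1, (Nat.chineseRemainder hcop 1 0).2.2⟩
  have hpow : ∀ d : D, ((ι (κ d) * t : Γ) : Γ ⧸ Q) ^ k = (t : Γ ⧸ Q) := by
    intro d
    have hcomm : Commute ((ι (κ d) : Γ) : Γ ⧸ Q) (t : Γ ⧸ Q) := by
      have := (S.range_iff (κ d)).1 ⟨d, rfl⟩
      rw [fixPre, Subgroup.mem_comap, Subgroup.mem_centralizer_singleton_iff] at this
      exact this
    rw [QuotientGroup.mk_mul, hcomm.mul_pow]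
    obtain ⟨l, rfl⟩ := Nat.modEq_zero_iff_dvd.1 hk2
    have h1 : ((ι (κ d) : Γ) : Γ ⧸ Q) ^ (m * l) = 1 := by
      rw [pow_mul, ← QuotientGroup.mk_pow, (QuotientGroup.eq_one_iff _).2 (hm _), one_pow]
    have h2 : (t : Γ ⧸ Q) ^ (m * l) = t := by
      conv_rhs => rw [← pow_one (t : Γ ⧸ Q)]
      refine pow_eq_pow_of_modEq hk1 ?_
      rw [← QuotientGroup.mk_pow, S.tpow, QuotientGroup.mk_one]
    rw [h1, h2, one_mul]
  have e := congrArg (fun g : Γ => (g : Γ ⧸ Q) ^ k) h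
  simp only [QuotientGroup.mk_mul _ (ι y * (ι (κ c) * t)), QuotientGroup.mk_mul _ (ι y),
    QuotientGroup.mk_inv, conj_pow, hpow] at e
  rw [S.range_iff, fixPre, Subgroup.mem_comap, Subgroup.mem_centralizer_singleton_iff]
  exact mul_inv_eq_iff_eq_mul.1 e

/-- The coset of `t` modulo `D` is a TI-set. -/
theorem mem_fixPre_of_conj {g : Γ} {c : D} {w : Γ}
    (hw : w = g * (ι (κ c) * t) * g⁻¹) (hwE : w ∈ fixPre Q t) : g ∈ fixPre Q t := by
  obtain ⟨y, j, rfl⟩ := S.dat.gen g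
  have htj : ∀ i : ℕ, t ^ i ∈ fixPre Q t := fun i => pow_mem (self_mem_fixPre t) i
  obtain ⟨c'', hc''⟩ : ∃ c'' : D, t ^ j * ι (κ c) * (t ^ j)⁻¹ = ι (κ c'') := by
    have h1 : t ^ j * ι (κ c) * (t ^ j)⁻¹ ∈ fixPre Q t :=
      mul_mem (mul_mem (htj j) ((S.range_iff _).1 ⟨c, rfl⟩)) (inv_mem (htj j))
    obtain ⟨h, hh⟩ := (S.dat.ker (t ^ j * ι (κ c) * (t ^ j)⁻¹)).1 (by simp [S.dat.lam_ι])
    obtain ⟨c'', rfl⟩ := (S.range_iff h).2 (hh ▸ h1)
    exact ⟨c'', hh.symm⟩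
  have e : w = ι y * (ι (κ c'') * t) * (ι y)⁻¹ := by
    rw [hw, ← hc'']
    group
  obtain ⟨h', hh'⟩ := (S.dat.ker (w * t⁻¹)).1 (by simp [e, S.dat.lam_ι])
  obtain ⟨c', rfl⟩ := (S.range_iff h').2 (hh' ▸ mul_mem hwE (inv_mem (self_mem_fixPre t)))
  have : w = ι (κ c') * t := by rw [hh', inv_mul_cancel_right]
  exact mul_mem ((S.range_iff y).1 (S.mem_range_of_conj (e.symm.trans this))) (htj j)

theorem coset_sum [Fintype H] [Fintype D] {F : Γ → ℂ} (hF : IsClassFunction Γ F) :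
    (Nat.card H : ℂ) * ∑ c : D, F (ι (κ c) * t) = (Nat.card D : ℂ) * ∑ h : H, F (ι h * t) := by
  classical
  have hex : ∀ q : H × D, ∃ h : H, ι h * t = ι q.1 * (ι (κ q.2) * t) * (ι q.1)⁻¹ := fun q => by
    obtain ⟨h, hh⟩ := (S.dat.ker (ι q.1 * (ι (κ q.2) * t) * (ι q.1)⁻¹ * t⁻¹)).1
      (by simp [S.dat.lam_ι])
    exact ⟨h, by rw [hh, inv_mul_cancel_right]⟩
  choose Φ hΦ using hex
  have hfib : ∀ y : H, (Finset.univ.filter fun q => Φ q = y).card ≤ Fintype.card D := by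
    intro y
    rcases (Finset.univ.filter fun q => Φ q = y).eq_empty_or_nonempty with h | ⟨q₀, hq₀⟩
    · rw [h]; exact Nat.zero_le _
    have hsame : ∀ q ∈ (Finset.univ.filter fun q => Φ q = y),
        ι q.1 * (ι (κ q.2) * t) * (ι q.1)⁻¹ = ι q₀.1 * (ι (κ q₀.2) * t) * (ι q₀.1)⁻¹ := fun q hq => by
      rw [← hΦ, ← hΦ, (Finset.mem_filter.1 hq).2, (Finset.mem_filter.1 hq₀).2]
    have hmem : ∀ q ∈ (Finset.univ.filter fun q => Φ q = y), q₀.1⁻¹ * q.1 ∈ κ.range := by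
      intro q hq
      refine S.mem_range_of_conj (c := q.2) (c' := q₀.2) ?_
      have := congrArg (fun g => (ι q₀.1)⁻¹ * g * ι q₀.1) (hsame q hq)
      simp only [map_mul, map_inv, mul_inv_rev, inv_inv] at this ⊢
      simpa [mul_assoc] using this
    choose g hg using fun q => fun hq : q ∈ (Finset.univ.filter fun q => Φ q = y) => hmem q hq
    rw [← Finset.card_univ]
    refine Finset.card_le_card_of_injOn
      (fun q => if h : q ∈ (Finset.univ.filter fun q => Φ q = y) then g q h else 1)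
      (fun _ _ => Finset.mem_univ _) fun q hq q' hq' e => ?_
    simp only [Finset.mem_coe] at hq hq'
    beta_reduce at e
    rw [dif_pos hq, dif_pos hq'] at e
    have e1 : q.1 = q'.1 := mul_left_cancel ((hg q hq).symm.trans ((congrArg κ e).trans (hg q' hq')))
    have e2 := (hsame q hq).trans (hsame q' hq').symm
    rw [e1] at e2
    exact Prod.ext e1 (S.inj (S.dat.inj (mul_right_cancel (mul_left_cancel (mul_right_cancel e2)))))
  have hsum := Finset.card_eq_sum_card_fiberwise (f := Φ) (s := Finset.univ) (t := Finset.univ)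
    (fun q _ => Finset.mem_univ _)
  have heq : ∀ y : H, (Finset.univ.filter fun q => Φ q = y).card = Fintype.card D := by
    intro y
    refine (Finset.sum_eq_sum_iff_of_le (fun y _ => hfib y)).1 ?_ y (Finset.mem_univ _)
    rw [← hsum]
    simp [mul_comm]
  calc (Nat.card H : ℂ) * ∑ c : D, F (ι (κ c) * t) = ∑ q : H × D, F (ι (Φ q) * t) := by
        rw [Fintype.sum_prod_type]
        simp only [hΦ, hF _ (ι _)]
        simp [Nat.card_eq_fintype_card]
    _ = ∑ y : H, ∑ q ∈ Finset.univ.filter (fun q => Φ q = y), F (ι (Φ q) * t) :=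
        (Finset.sum_fiberwise _ _ _).symm
    _ = ∑ y : H, (Fintype.card D : ℂ) * F (ι y * t) := by
        refine Finset.sum_congr rfl fun y _ => ?_
        rw [Finset.sum_congr rfl fun q hq => by rw [(Finset.mem_filter.1 hq).2], Finset.sum_const,
          heq, nsmul_eq_mul]
    _ = _ := by rw [← Finset.mul_sum, Nat.card_eq_fintype_card]

/-- The inner product over the coset of `t` in the centraliser modulo `Q`. -/
noncomputable def cosD (A : Γ → ℂ) (B : fixPre Q t → ℂ) : ℂ :=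
  cosInner S.eD ⟨t, self_mem_fixPre t⟩ 1 (fun e => A e) B

theorem cos_transfer {A B : Γ → ℂ} (hA : IsClassFunction Γ A) (hB : IsClassFunction Γ B) :
    S.cosD A (fun e => B e) = cosInner ι t 1 A B := by
  haveI := Fintype.ofFinite H
  haveI := Fintype.ofFinite D
  have hF : IsClassFunction Γ (fun g => A g * conj (B g)) := fun g k => by
    show _ * _ = _ * _
    rw [hA g k, hB g k]
  have e := S.coset_sum hF
  rw [cosD, cosInner_eq, cosInner_eq]
  simp only [Subgroup.coe_mul, pow_one, eD_coe]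
  have hH : (Nat.card H : ℂ) ≠ 0 := Nat.cast_ne_zero.2 Nat.card_pos.ne'
  have hD : (Nat.card D : ℂ) ≠ 0 := Nat.cast_ne_zero.2 Nat.card_pos.ne'
  field_simp
  linear_combination e

theorem isClassFunction_coe {A : Γ → ℂ} (hA : IsClassFunction Γ A) :
    IsClassFunction (fixPre Q t) (fun e => A e) := fun g h => hA g h

theorem isCharacter_coe {A : Γ → ℂ} (hA : IsCharacter Γ A) :
    IsCharacter (fixPre Q t) (fun e => A e) := Chars.isCharacter_comp (fixPre Q t).subtype hA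

theorem cosD_ne_zero_exists {A : Γ → ℂ} {θ : fixPre Q t → ℂ} (h : S.cosD A θ ≠ 0) :
    (∃ c : D, A (ι (κ c) * t) ≠ 0) ∧ ∃ c : D, θ (S.eD c * ⟨t, self_mem_fixPre t⟩) ≠ 0 := by
  haveI := Fintype.ofFinite D
  rw [cosD, cosInner_eq] at h
  simp only [Subgroup.coe_mul, pow_one, eD_coe] at h
  obtain ⟨c, -, hc⟩ := Finset.exists_ne_zero_of_sum_ne_zero (right_ne_zero_of_mul h)
  exact ⟨⟨c, left_ne_zero_of_mul hc⟩,
    ⟨c, fun e => right_ne_zero_of_mul hc (by rw [e, map_zero])⟩⟩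

/-- The orbit of an invariant character. -/
theorem exists_unit (χh : IrrCharacter Γ)
    (hirr : IsIrrCharacter H (fun x => (χh : Γ → ℂ) (ι x))) :
    ∃ θ₀ : IrrCharacter (fixPre Q t), S.cosD (χh : Γ → ℂ) (θ₀ : _ → ℂ) ≠ 0 ∧
      S.cosD (χh : Γ → ℂ) (θ₀ : _ → ℂ) * conj (S.cosD (χh : Γ → ℂ) (θ₀ : _ → ℂ)) = 1 ∧
      ∀ θ : IrrCharacter (fixPre Q t), S.cosD (χh : Γ → ℂ) (θ : _ → ℂ) ≠ 0 →
        ∀ c, (θ : _ → ℂ) (S.eD c) = (θ₀ : _ → ℂ) (S.eD c) := by
  classical
  have hcl := Chars.irr_isClassFunction χh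
  set b : IrrCharacter (fixPre Q t) → ℂ := fun θ => S.cosD (χh : Γ → ℂ) (θ : _ → ℂ) with hb
  have hpar : ∑ θ, b θ * conj (b θ) = ((p ^ a : ℕ) : ℂ) := by
    have := S.datE.parseval (S.isClassFunction_coe hcl) (S.isClassFunction_coe hcl)
    rw [show cosInner S.eD ⟨t, self_mem_fixPre t⟩ 1 (fun e : fixPre Q t => (χh : Γ → ℂ) e)
      (fun e : fixPre Q t => (χh : Γ → ℂ) e) = 1 from
      (S.cos_transfer hcl hcl).trans (S.dat.cos_self χh hirr 1), mul_one] at this
    exact this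
  have hmem : ∀ θ, b θ ∈ KGV.cycInt := by
    intro θ
    obtain ⟨n, hn⟩ := S.datE.exists_coef (S.isCharacter_coe (Chars.irr_isCharacter χh))
      (Chars.irr_isCharacter θ)
    rw [show b θ = _ from hn 1]
    refine sum_mem fun j _ => mul_mem (pow_mem (KGV.conj_mem_cycInt ?_) j) (natCast_mem _ _)
    rw [pow_one]
    exact KGV.root_mem_cycInt S.dat.pos S.datE.prim.pow_eq_one
  obtain ⟨θ₀, hθ₀⟩ : ∃ θ, b θ ≠ 0 := by
    by_contra hall
    push Not at hall
    simp only [hall, zero_mul, Finset.sum_const_zero] at hpar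
    exact S.dat.pos.ne' (by exact_mod_cast hpar.symm)
  set T := Finset.univ.filter fun θ => b θ ≠ 0 with hT
  obtain ⟨c₀, hc₀⟩ := (S.cosD_ne_zero_exists hθ₀).2
  set lamE := lam.comp (fixPre Q t).subtype with hlamE
  have htw : ∀ j, b (twistIrr lamE j θ₀) = conj ((lam t : ℂ) ^ j) * b θ₀ := fun j =>
    S.datE.cos_twist_right _ _ j
  set T' := (Finset.range (p ^ a)).image (fun j => twistIrr lamE j θ₀) with hT'
  have hcard' : T'.card = p ^ a := by
    rw [hT', Finset.card_image_of_injOn, Finset.card_range]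
    intro i hi j hj e
    exact S.datE.twistIrr_injOn θ₀ hc₀ (Finset.mem_range.1 hi) (Finset.mem_range.1 hj) e
  have hsub : T' ⊆ T := by
    intro θ hθ
    obtain ⟨j, -, rfl⟩ := Finset.mem_image.1 hθ
    rw [hT, Finset.mem_filter, htw]
    exact ⟨Finset.mem_univ _, mul_ne_zero (by simp) hθ₀⟩
  have hle : T.card ≤ p ^ a := by
    have h := KGV.card_le_sum_normSq_of_rational (fun θ : T => b θ) (fun θ => hmem θ)
      (fun θ => (Finset.mem_filter.1 θ.2).2) (p ^ a : ℕ) ?_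
    · rw [Fintype.card_coe] at h
      exact_mod_cast h
    · have h1 : ((∑ θ : T, Complex.normSq (b θ) : ℝ) : ℂ) = (((p ^ a : ℕ) : ℚ) : ℝ) := by
        push_cast at hpar ⊢
        rw [← hpar, Finset.sum_coe_sort T (fun θ => ((Complex.normSq (b θ) : ℝ) : ℂ))]
        simp only [← Complex.mul_conj]
        exact Finset.sum_filter_of_ne fun θ _ h e => h (by rw [e, zero_mul])
      exact_mod_cast h1
  have hTT : T' = T := Finset.eq_of_subset_of_card_le hsub (hcard'.symm ▸ hle)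
  refine ⟨θ₀, hθ₀, ?_, fun θ hθ c => ?_⟩
  · have hone : ∀ θ ∈ T, b θ * conj (b θ) = b θ₀ * conj (b θ₀) := by
      intro θ hθ
      obtain ⟨j, -, rfl⟩ := Finset.mem_image.1 (hTT ▸ hθ)
      rw [htw, map_mul, Complex.conj_conj, mul_mul_mul_comm, mul_comm (conj _) _, S.dat.mul_conj_z,
        one_mul]
    have h2 : ∑ θ ∈ T, b θ * conj (b θ) = ((p ^ a : ℕ) : ℂ) := by
      rw [← hpar]
      exact Finset.sum_filter_of_ne fun θ _ h e => h (by rw [e, zero_mul])
    rw [Finset.sum_congr rfl hone, Finset.sum_const, ← hTT, hcard', nsmul_eq_mul] at h2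
    exact mul_left_cancel₀ (Nat.cast_ne_zero.2 S.dat.pos.ne') (h2.trans (mul_one _).symm)
  · have h3 : θ ∈ T' := hTT.symm ▸ Finset.mem_filter.2 ⟨Finset.mem_univ _, hθ⟩
    obtain ⟨j, -, rfl⟩ := Finset.mem_image.1 h3
    exact S.datE.twist_ι j _ c

/-- Two different characters have different orbits. -/
theorem orth_unit {χh ψh : IrrCharacter Γ}
    (hirr : IsIrrCharacter H (fun x => (χh : Γ → ℂ) (ι x)))
    (hirr' : IsIrrCharacter H (fun x => (ψh : Γ → ℂ) (ι x)))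
    (hne : (fun x => (χh : Γ → ℂ) (ι x)) ≠ (fun x => (ψh : Γ → ℂ) (ι x)))
    {θ θ' : IrrCharacter (fixPre Q t)} (h : S.cosD (χh : Γ → ℂ) (θ : _ → ℂ) ≠ 0)
    (h' : S.cosD (ψh : Γ → ℂ) (θ' : _ → ℂ) ≠ 0) :
    ∃ c, (θ : _ → ℂ) (S.eD c) ≠ (θ' : _ → ℂ) (S.eD c) := by
  classical
  haveI := Fintype.ofFinite H
  by_contra hall
  push Not at hall
  obtain ⟨θ₀, h₀, -, huniq⟩ := S.exists_unit χh hirr
  obtain ⟨c₀, hc₀⟩ := (S.cosD_ne_zero_exists h₀).2
  have hr₀ := S.datE.restrict_irr θ₀ hc₀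
  set lamE := lam.comp (fixPre Q t).subtype with hlamE
  obtain ⟨i, -, hi⟩ := S.datE.exists_twist_of_restrict θ₀ θ' hr₀
    fun c => (hall c).symm.trans (huniq θ h c)
  have hψ₀ : S.cosD (ψh : Γ → ℂ) (θ₀ : _ → ℂ) ≠ 0 := by
    intro e
    refine h' ?_
    rw [hi, cosD, twistIrr_coe, S.datE.cos_twist_right]
    exact mul_eq_zero_of_right _ e
  set b : IrrCharacter (fixPre Q t) → ℂ := fun θ =>
    S.cosD (χh : Γ → ℂ) (θ : _ → ℂ) * conj (S.cosD (ψh : Γ → ℂ) (θ : _ → ℂ)) with hb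
  have hcl := Chars.irr_isClassFunction χh
  have hcl' := Chars.irr_isClassFunction ψh
  have hpar : ∑ θ, b θ = 0 := by
    have := S.datE.parseval (S.isClassFunction_coe hcl) (S.isClassFunction_coe hcl')
    have h0 : cosInner ι t 1 (χh : Γ → ℂ) (ψh : Γ → ℂ) = 0 :=
      S.dat.cos_eq_zero_of_orth (Chars.irr_isCharacter χh) (Chars.irr_isCharacter ψh)
        (Chars.classInner_irr_of_ne (χ := (⟨_, hirr⟩ : IrrCharacter H)) (ψ := ⟨_, hirr'⟩)
          fun e => hne (congrArg Subtype.val e)) 1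
    rw [show cosInner S.eD ⟨t, self_mem_fixPre t⟩ 1 (fun e : fixPre Q t => (χh : Γ → ℂ) e)
      (fun e : fixPre Q t => (ψh : Γ → ℂ) e) = 0 from (S.cos_transfer hcl hcl').trans h0,
      mul_zero] at this
    exact this
  have hval : ∀ θ, b θ ≠ 0 → b θ = b θ₀ := by
    intro θ hθ
    obtain ⟨j, -, rfl⟩ := S.datE.exists_twist_of_restrict θ₀ θ hr₀
      (huniq θ (left_ne_zero_of_mul hθ))
    simp only [hb, cosD, twistIrr_coe, S.datE.cos_twist_right, map_mul, Complex.conj_conj]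
    rw [mul_mul_mul_comm, mul_comm (conj _) _]
    rw [show ((lam.comp (fixPre Q t).subtype) ⟨t, self_mem_fixPre t⟩ : ℂ) = (lam t : ℂ) from rfl,
      S.dat.mul_conj_z, one_mul]
  have hb₀ : b θ₀ ≠ 0 := mul_ne_zero h₀ (by simpa using hψ₀)
  rw [← Finset.sum_filter_ne_zero,
    Finset.sum_congr rfl (fun θ hθ => hval θ (Finset.mem_filter.1 hθ).2), Finset.sum_const,
    nsmul_eq_mul] at hpar
  rcases mul_eq_zero.1 hpar with e | e
  · have := Finset.card_eq_zero.1 (Nat.cast_eq_zero.1 e)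
    exact Finset.notMem_empty θ₀ (this ▸ Finset.mem_filter.2 ⟨Finset.mem_univ _, hb₀⟩)
  · exact hb₀ e

/-- Every extension of an invariant character of `D` is met. -/
theorem exists_cosD_ne_zero (θ : IrrCharacter (fixPre Q t))
    (hirr : IsIrrCharacter D (fun c => (θ : _ → ℂ) (S.eD c))) :
    ∃ χh : IrrCharacter Γ, S.cosD (χh : Γ → ℂ) (θ : _ → ℂ) ≠ 0 := by
  classical
  haveI := Fintype.ofFinite Γ
  haveI := Fintype.ofFinite D
  by_contra hall
  push Not at hall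
  let θ' : Γ → ℂ := fun g => if h : g ∈ fixPre Q t then
    (if (lam g : ℂ) = (lam t : ℂ) then (θ : fixPre Q t → ℂ) ⟨g, h⟩ else 0) else 0
  let F : Γ → ℂ := fun g => ∑ y : Γ, θ' (y * g * y⁻¹)
  have hFcl : IsClassFunction Γ F := fun g k => by
    refine Fintype.sum_equiv (Equiv.mulRight k) _ _ fun y => ?_
    simp only [Equiv.coe_mulRight, mul_inv_rev, mul_assoc]
  have hsum : ∀ f : Γ → ℂ, ∑ g, f g * conj (θ' g) =
      ∑ c : D, f (ι (κ c) * t) * conj ((θ : _ → ℂ) (S.eD c * ⟨t, self_mem_fixPre t⟩)) := by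
    intro f
    symm
    refine Finset.sum_bij_ne_zero (fun c _ _ => ι (κ c) * t) (fun c _ _ => Finset.mem_univ _)
      (fun c _ _ c' _ _ e => S.inj (S.dat.inj (mul_right_cancel e))) ?_ ?_
    · intro g _ hg
      have hg' : θ' g ≠ 0 := fun e => hg (by rw [e, map_zero, mul_zero])
      have hgE : g ∈ fixPre Q t := by
        by_contra hc; exact hg' (dif_neg hc)
      have hgl : (lam g : ℂ) = (lam t : ℂ) := by
        by_contra hc
        refine hg' ?_
        simp only [θ', dif_pos hgE, if_neg hc]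
      obtain ⟨h, hh⟩ := (S.dat.ker (g * t⁻¹)).1 (by
        rw [map_mul, map_inv, Units.ext hgl, mul_inv_cancel])
      obtain ⟨c, rfl⟩ := (S.range_iff h).2 (hh ▸ mul_mem hgE (inv_mem (self_mem_fixPre t)))
      have e : ι (κ c) * t = g := by rw [hh, inv_mul_cancel_right]
      refine ⟨c, Finset.mem_univ _, ?_, e⟩
      subst e
      simp only [θ', dif_pos hgE, map_mul lam, S.dat.lam_ι, one_mul, if_pos] at hg
      exact hg
    · intro c _ _
      have hmem : ι (κ c) * t ∈ fixPre Q t := (S.eD c * (⟨t, self_mem_fixPre t⟩ : fixPre Q t)).2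
      simp only [θ', dif_pos hmem, map_mul lam, S.dat.lam_ι, one_mul, if_pos]
      rfl
  have hF : F = 0 := by
    refine Chars.eq_zero_of_forall_classInner_eq_zero hFcl fun χ => ?_
    rw [← Chars.conj_classInner, classInner, map_eq_zero]
    have h1 : ∀ y : Γ, ∑ g, (χ : Γ → ℂ) g * conj (θ' (y * g * y⁻¹)) =
        ∑ g, (χ : Γ → ℂ) g * conj (θ' g) := fun y => by
      refine Fintype.sum_equiv (MulAut.conj y).toEquiv _ _ fun g => ?_
      show _ = (χ : Γ → ℂ) (y * g * y⁻¹) * _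
      rw [Chars.irr_isClassFunction χ g y]
      rfl
    simp only [F, map_sum, Finset.mul_sum]
    rw [Finset.sum_comm]
    simp only [← Finset.mul_sum, h1, hsum]
    have h2 := hall χ
    rw [cosD, cosInner_eq] at h2
    simp only [Subgroup.coe_mul, pow_one, eD_coe] at h2
    rw [(mul_eq_zero.1 h2).resolve_left (by simp)]
    simp
  obtain ⟨c, hc⟩ := S.datE.exists_ne_zero θ hirr
  refine hc ?_
  have hval : ∀ y : Γ, θ' (y * (ι (κ c) * t) * y⁻¹) =
      if y ∈ fixPre Q t then (θ : _ → ℂ) (S.eD c * ⟨t, self_mem_fixPre t⟩) else 0 := by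
    intro y
    by_cases hy : y ∈ fixPre Q t
    · rw [if_pos hy]
      have hmem : y * (ι (κ c) * t) * y⁻¹ ∈ fixPre Q t :=
        mul_mem (mul_mem hy (S.eD c * (⟨t, self_mem_fixPre t⟩ : fixPre Q t)).2) (inv_mem hy)
      have hl : (lam (y * (ι (κ c) * t) * y⁻¹) : ℂ) = (lam t : ℂ) := by
        rw [map_mul, map_mul, map_mul, S.dat.lam_ι, map_inv, one_mul, mul_comm (lam y),
          mul_inv_cancel_right]
      simp only [θ', dif_pos hmem, if_pos hl]
      rw [← Chars.irr_isClassFunction θ (S.eD c * ⟨t, self_mem_fixPre t⟩) ⟨y, hy⟩]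
      exact congrArg _ (Subtype.ext rfl)
    · rw [if_neg hy]
      simp only [θ']
      split_ifs with h1
      · exact absurd (S.mem_fixPre_of_conj rfl h1) hy
      · rfl
      · rfl
  have h3 : F (ι (κ c) * t) = 0 := congrFun hF _
  simp only [F, hval, ← Finset.sum_filter, Finset.sum_const, nsmul_eq_mul] at h3
  refine (mul_eq_zero.1 h3).resolve_left (Nat.cast_ne_zero.2 ?_)
  exact (Finset.card_pos.2 ⟨1, by simp⟩).ne'

theorem isFix_eD_iff (ξ : D → ℂ) :
    IsFix S.eD ⟨t, self_mem_fixPre t⟩ ξ ↔ IsFix (ι.comp κ) t ξ :=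
  ⟨fun h c c' e => h c c' (Subtype.ext (by simpa using e)),
    fun h c c' e => h c c' (by simpa using congrArg Subtype.val e)⟩

/-- The correspondence for one operator. -/
theorem exists_corr [Fintype D] : ∃ f : {χ : IrrCharacter H // IsFix ι t (χ : H → ℂ)} →
      {ξ : IrrCharacter D // IsFix (ι.comp κ) t (ξ : D → ℂ)}, Function.Bijective f ∧
    ∀ χ, ∀ ξ : {ξ : IrrCharacter D // IsFix (ι.comp κ) t (ξ : D → ℂ)}, ∃ m : ℕ,
      classInner (fun c => (χ.1 : H → ℂ) (κ c)) (ξ.1 : D → ℂ) = (m : ℂ) ∧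
      (ξ = f χ → ((m : ZMod p) = 1 ∨ (m : ZMod p) = -1)) ∧ (ξ ≠ f χ → p ∣ m) := by
  classical
  haveI := Fact.mk S.prime
  choose ext hext using fun χ : {χ : IrrCharacter H // IsFix ι t (χ : H → ℂ)} =>
    S.dat.exists_ext χ.1 χ.2
  choose extD hextD using fun ξ : {ξ : IrrCharacter D // IsFix (ι.comp κ) t (ξ : D → ℂ)} =>
    S.datE.exists_ext ξ.1 ((S.isFix_eD_iff _).2 ξ.2)
  have hirr : ∀ χ, IsIrrCharacter H (fun x => (ext χ : Γ → ℂ) (ι x)) := fun χ => by
    rw [funext (hext χ)]; exact χ.1.2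
  have hirrD : ∀ ξ, IsIrrCharacter D (fun x => (extD ξ : _ → ℂ) (S.eD x)) := fun ξ => by
    rw [funext (hextD ξ)]; exact ξ.1.2
  choose θ₀ h₀ hone huniq using fun χ => S.exists_unit (ext χ) (hirr χ)
  let f : {χ : IrrCharacter H // IsFix ι t (χ : H → ℂ)} →
      {ξ : IrrCharacter D // IsFix (ι.comp κ) t (ξ : D → ℂ)} := fun χ =>
    ⟨⟨fun c => (θ₀ χ : _ → ℂ) (S.eD c),
      S.datE.restrict_irr (θ₀ χ) (S.cosD_ne_zero_exists (h₀ χ)).2.choose_spec⟩,
      (S.isFix_eD_iff _).1 (S.datE.isFix_restrict (Chars.irr_isClassFunction _))⟩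
  have hf : ∀ χ c, ((f χ).1 : D → ℂ) c = (θ₀ χ : _ → ℂ) (S.eD c) := fun χ c => rfl
  refine ⟨f, ⟨fun χ ψ e => ?_, fun ξ => ?_⟩, fun χ ξ => ?_⟩
  · by_contra hne
    obtain ⟨c, hc⟩ := S.orth_unit (hirr χ) (hirr ψ) (fun e' => hne (Subtype.ext (Subtype.ext (by
      rwa [funext (hext χ), funext (hext ψ)] at e')))) (h₀ χ) (h₀ ψ)
    exact hc (by rw [← hf, ← hf, e])
  · obtain ⟨χh, hχh⟩ := S.exists_cosD_ne_zero (extD ξ) (hirrD ξ)
    obtain ⟨c, hc⟩ := (S.cosD_ne_zero_exists hχh).1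
    have hres := S.dat.restrict_irr χh hc
    let χ : {χ : IrrCharacter H // IsFix ι t (χ : H → ℂ)} :=
      ⟨⟨_, hres⟩, S.dat.isFix_restrict (Chars.irr_isClassFunction χh)⟩
    obtain ⟨j, -, hj⟩ := S.dat.exists_twist_of_restrict χh (ext χ) hres (hext χ)
    have h1 : S.cosD (ext χ : Γ → ℂ) (extD ξ : _ → ℂ) ≠ 0 := by
      haveI := Fintype.ofFinite D
      rw [cosD, cosInner_eq] at hχh ⊢
      intro e
      refine hχh ?_
      have hz : ∀ x : D, (lam (ι (κ x) * t) : ℂ) = (lam t : ℂ) := fun x => by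
        rw [map_mul, S.dat.lam_ι, one_mul]
      simp only [Subgroup.coe_mul, pow_one, eD_coe, hj, twistIrr_coe, twist, hz] at e ⊢
      simp only [mul_right_comm _ ((lam t : ℂ) ^ j), ← Finset.sum_mul, ← mul_assoc] at e
      exact (mul_eq_zero.1 e).resolve_right (by simp)
    exact ⟨χ, Subtype.ext (Subtype.ext (funext fun c => by
      rw [hf, ← huniq χ _ h1 c, hextD]))⟩
  · obtain ⟨n, hn⟩ := S.datE.exists_coef (S.isCharacter_coe (Chars.irr_isCharacter (ext χ)))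
      (Chars.irr_isCharacter (extD ξ))
    have hm : classInner (fun c => (χ.1 : H → ℂ) (κ c)) (ξ.1 : D → ℂ) =
        ((∑ j ∈ Finset.range (p ^ a), n j : ℕ) : ℂ) := by
      have := hn 0
      rw [cosInner_zero] at this
      simp only [eD_coe, hext χ, hextD ξ, pow_zero, map_one, one_pow, one_mul] at this
      rw [this]; push_cast; rfl
    refine ⟨_, hm, fun e => ?_, fun e => ?_⟩
    · obtain ⟨j, -, hj⟩ := S.datE.exists_twist_of_restrict (θ₀ χ) (extD ξ)
        ((f χ).1.2) (fun c => by rw [hextD, e])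
      refine sum_natCast_eq_pm_one S.dat.prim n (b := S.cosD (ext χ : Γ → ℂ) (extD ξ : _ → ℂ))
        ?_ ?_
      · rw [cosD, hn 1]; simp only [pow_one]; rfl
      · rw [hj, cosD, twistIrr_coe, S.datE.cos_twist_right, map_mul, Complex.conj_conj,
          mul_mul_mul_comm, mul_comm (conj _) _, S.datE.mul_conj_z, one_mul]
        exact hone χ
    · refine sum_natCast_eq_zero S.prime S.dat.prim n ?_
      by_contra h1
      have h2 : S.cosD (ext χ : Γ → ℂ) (extD ξ : _ → ℂ) ≠ 0 := by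
        rw [cosD, hn 1]; simp only [pow_one]; exact h1
      exact e (Subtype.ext (Subtype.ext (funext fun c => by
        rw [hf, ← huniq χ _ h2 c, hextD])))

end Setting

end Cfsg.Agent.Lib.SylowCorr
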