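import Mathlib
import Cfsg.Prelude.Def_Blocks
import Cfsg.Agent.Lib.SylowCorr.Step
import Cfsg.Agent.Lib.Glauberman.Action
import Cfsg.Agent.Lib.Glauberman.PGroup

/-!
# The correspondence for a p-group acting on a group with a normal Sylow subgroup
-/

set_option autoImplicit false
set_option maxHeartbeats 1000000

namespace Cfsg.Agent.Lib.SylowCorr

open Cfsg
open Cfsg.Agent.Lib
open Cfsg.Agent.Lib.Glauberman (IsInv IsConjBy resSub Normalises charMult normGroup)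

theorem sum_eq_sum_fixedPoints {p : ℕ} [Fact p.Prime] {A X : Type*} [Group A] [MulAction A X]
    [Fintype X] (hA : IsPGroup p A) (F : X → ZMod p) (hF : ∀ (a : A) (x : X), F (a • x) = F x)
    [DecidablePred fun x : X => x ∈ MulAction.fixedPoints A X] :
    ∑ x, F x = ∑ x ∈ Finset.univ.filter (fun x => x ∈ MulAction.fixedPoints A X), F x := by
  classical
  rw [← Finset.sum_fiberwise Finset.univ F F, ← Finset.sum_fiberwise (Finset.univ.filter _) F F]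
  refine Finset.sum_congr rfl fun v _ => ?_
  rw [Finset.sum_congr rfl fun x hx => (Finset.mem_filter.1 hx).2, Finset.sum_const,
    Finset.sum_congr rfl fun x hx => (Finset.mem_filter.1 hx).2, Finset.sum_const,
    nsmul_eq_mul, nsmul_eq_mul]
  congr 1
  letI : MulAction A {x // F x = v} :=
    { smul := fun a x => ⟨a • x.1, by rw [hF, x.2]⟩
      one_smul := fun x => Subtype.ext (one_smul A x.1)
      mul_smul := fun a b x => Subtype.ext (mul_smul a b x.1) }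
  have h := (ZMod.natCast_eq_natCast_iff _ _ _).2 (hA.card_modEq_card_fixedPoints {x // F x = v})
  rw [Nat.card_eq_fintype_card, Fintype.card_subtype] at h
  rw [h]
  congr 1
  rw [Finset.filter_filter, ← Fintype.card_subtype, ← Nat.card_eq_fintype_card]
  exact Nat.card_congr
    { toFun := fun x => ⟨x.1.1, fun a => congrArg Subtype.val (x.2 a), x.1.2⟩
      invFun := fun x => ⟨⟨x.1, x.2.2⟩, fun a => Subtype.ext (x.2.1 a)⟩
      left_inv := fun x => rfl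
      right_inv := fun x => rfl }

variable {G : Type*} [Group G] [Finite G] {p : ℕ} [Fact p.Prime] {K C C₁ Q P A : Subgroup G}

/-- Reduction of a sum over all irreducible characters to the invariant ones. -/
theorem sum_eq_sum_inv (hP : IsPGroup p P) (hK : ∀ x ∈ P, Normalises x K)
    [Fintype (IrrCharacter K)] [DecidablePred fun χ : IrrCharacter K => IsInv P (χ : K → ℂ)]
    (F : IrrCharacter K → ZMod p)
    (hF : ∀ x ∈ P, ∀ χ χ' : IrrCharacter K, IsConjBy x (χ : K → ℂ) (χ' : K → ℂ) → F χ' = F χ) :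
    ∑ χ, F χ = ∑ χ ∈ Finset.univ.filter (fun χ : IrrCharacter K => IsInv P (χ : K → ℂ)), F χ := by
  classical
  letI : MulAction P (IrrCharacter K) :=
    MulAction.compHom _ (Subgroup.inclusion (show P ≤ normGroup K from hK))
  have hs : ∀ (x : P) (χ : IrrCharacter K),
      IsConjBy (x : G) (χ : K → ℂ) ((x • χ : IrrCharacter K) : K → ℂ) := fun x χ =>
    Glauberman.smul_irr_spec (Subgroup.inclusion (show P ≤ normGroup K from hK) x) χ
  rw [sum_eq_sum_fixedPoints hP F fun x χ => hF x x.2 χ _ (hs x χ)]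
  refine Finset.sum_congr (Finset.filter_congr fun χ _ => ⟨fun h x hx => ?_, fun h x => ?_⟩)
    fun _ _ => rfl
  · have := hs ⟨x, hx⟩ χ
    rwa [h ⟨x, hx⟩] at this
  · exact Subtype.ext (IsConjBy.eq (hK x x.2) (hs x χ) (h x x.2))

/-- The invariant irreducible characters. -/
abbrev InvIrr (P K : Subgroup G) : Type _ := {χ : IrrCharacter K // IsInv P (χ : K → ℂ)}

theorem sum_inv_eq_single {M : Type*} [AddCommMonoid M] [Fintype (IrrCharacter K)]
    [DecidablePred fun χ : IrrCharacter K => IsInv P (χ : K → ℂ)] (F : IrrCharacter K → M)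
    (a : InvIrr P K) (h : ∀ χ : InvIrr P K, χ ≠ a → F χ.1 = 0) :
    ∑ χ ∈ Finset.univ.filter (fun χ : IrrCharacter K => IsInv P (χ : K → ℂ)), F χ = F a.1 :=
  Finset.sum_eq_single_of_mem a.1 (Finset.mem_filter.2 ⟨Finset.mem_univ _, a.2⟩) fun χ hχ hne =>
    h ⟨χ, (Finset.mem_filter.1 hχ).2⟩ fun e => hne (congrArg Subtype.val e)

/-- The multiplicity modulo `p`. -/
noncomputable def μ (p : ℕ) (h : C ≤ K) (χ : IrrCharacter K) (ξ : IrrCharacter C) : ZMod p :=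
  (charMult (resSub h (χ : K → ℂ)) (ξ : C → ℂ) : ℕ)

theorem μ_conj {x : G} (hK : Normalises x K) (hC : Normalises x C) (h : C ≤ K)
    {χ χ' : IrrCharacter K} (hχ : IsConjBy x (χ : K → ℂ) (χ' : K → ℂ))
    {ξ ξ' : IrrCharacter C} (hξ : IsConjBy x (ξ : C → ℂ) (ξ' : C → ℂ)) :
    μ p h χ' ξ' = μ p h χ ξ := by
  unfold μ
  rw [Glauberman.charMult_conjBy hK hC h hχ hξ]

/-- A correspondence. -/
def IsCor (p : ℕ) (P : Subgroup G) (h : C ≤ K) (f : InvIrr P K → InvIrr P C) : Prop :=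
  Function.Bijective f ∧ ∀ χ, (μ p h χ.1 (f χ).1 = 1 ∨ μ p h χ.1 (f χ).1 = -1) ∧
    ∀ ξ, ξ ≠ f χ → μ p h χ.1 ξ.1 = 0

theorem IsCor.mul_self {h : C ≤ K} {f : InvIrr P K → InvIrr P C} (hf : IsCor p P h f) (χ) :
    μ p h χ.1 (f χ).1 * μ p h χ.1 (f χ).1 = 1 := by
  rcases (hf.2 χ).1 with e | e <;> rw [e] <;> simp

/-- A correspondence for a smaller group restricts to one for a larger one. -/
theorem IsCor.mono {h : C ≤ K} {f : InvIrr A K → InvIrr A C} (hf : IsCor p A h f) (hAP : A ≤ P)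
    (hP : IsPGroup p P) (hK : ∀ x ∈ P, Normalises x K) (hC : ∀ x ∈ P, Normalises x C) :
    ∃ f' : InvIrr P K → InvIrr P C, IsCor p P h f' := by
  classical
  haveI := Fintype.ofFinite (IrrCharacter K)
  haveI := Fintype.ofFinite (IrrCharacter C)
  have hA := hP.to_le hAP
  have hKA : ∀ x ∈ A, Normalises x K := fun x hx => hK x (hAP hx)
  have hCA : ∀ x ∈ A, Normalises x C := fun x hx => hC x (hAP hx)
  have hdown : ∀ χ : InvIrr P K, IsInv P ((f ⟨χ.1, χ.2.mono hAP⟩).1 : C → ℂ) := by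
    intro χ
    set χ' : InvIrr A K := ⟨χ.1, χ.2.mono hAP⟩
    have hinv : ∀ x ∈ P, ∀ ξ ξ' : IrrCharacter C, IsConjBy x (ξ : C → ℂ) (ξ' : C → ℂ) →
        μ p h χ.1 ξ' * μ p h χ.1 ξ' = μ p h χ.1 ξ * μ p h χ.1 ξ := fun x hx ξ ξ' e => by
      rw [μ_conj (hK x hx) (hC x hx) h (χ.2 x hx) e]
    have e1 := sum_eq_sum_inv hA hCA (fun ξ => μ p h χ.1 ξ * μ p h χ.1 ξ)
      fun x hx => hinv x (hAP hx)
    have e2 := sum_eq_sum_inv hP hC (fun ξ => μ p h χ.1 ξ * μ p h χ.1 ξ) hinv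
    have hμ : ∀ ξ : InvIrr A C, ξ ≠ f χ' → μ p h χ.1 ξ.1 = 0 := (hf.2 χ').2
    rw [e1, sum_inv_eq_single _ (f χ') (fun ξ hne => by rw [hμ ξ hne, mul_zero]),
      hf.mul_self χ'] at e2
    obtain ⟨ξ, hξ, hξ0⟩ := Finset.exists_ne_zero_of_sum_ne_zero
      (fun h0 => one_ne_zero (e2.trans h0))
    have hξP := (Finset.mem_filter.1 hξ).2
    have : (⟨ξ, hξP.mono hAP⟩ : InvIrr A C) = f χ' := by
      by_contra hne
      have h0 : μ p h χ.1 ξ = 0 := (hf.2 χ').2 ⟨ξ, hξP.mono hAP⟩ hne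
      exact hξ0 (by rw [h0, mul_zero])
    rw [← this]
    exact hξP
  refine ⟨fun χ => ⟨(f ⟨χ.1, χ.2.mono hAP⟩).1, hdown χ⟩, ⟨fun χ ψ e => ?_, fun ξ => ?_⟩,
    fun χ => ⟨(hf.2 ⟨χ.1, χ.2.mono hAP⟩).1,
      fun ξ hne => (hf.2 ⟨χ.1, χ.2.mono hAP⟩).2 ⟨ξ.1, ξ.2.mono hAP⟩ fun e => hne ?_⟩⟩
  · have h1 : f ⟨χ.1, χ.2.mono hAP⟩ = f ⟨ψ.1, ψ.2.mono hAP⟩ :=
      Subtype.ext (congrArg (fun x : InvIrr P C => x.1) e)
    exact Subtype.ext (congrArg (fun x : InvIrr A K => x.1) (hf.1.1 h1) :)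
  · obtain ⟨η, hη⟩ := hf.1.2 ⟨ξ.1, ξ.2.mono hAP⟩
    have hηξ : (f η).1 = ξ.1 := congrArg Subtype.val hη
    have hinv : ∀ x ∈ P, ∀ χ χ' : IrrCharacter K, IsConjBy x (χ : K → ℂ) (χ' : K → ℂ) →
        μ p h χ' ξ.1 * μ p h χ' ξ.1 = μ p h χ ξ.1 * μ p h χ ξ.1 := fun x hx χ χ' e => by
      rw [μ_conj (hK x hx) (hC x hx) h e (ξ.2 x hx)]
    have e1 := sum_eq_sum_inv hA hKA (fun χ => μ p h χ ξ.1 * μ p h χ ξ.1)
      fun x hx => hinv x (hAP hx)
    have e2 := sum_eq_sum_inv hP hK (fun χ => μ p h χ ξ.1 * μ p h χ ξ.1) hinv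
    have hμ : ∀ χ : InvIrr A K, χ ≠ η → μ p h χ.1 ξ.1 = 0 := fun χ hne =>
      (hf.2 χ).2 ⟨ξ.1, ξ.2.mono hAP⟩ fun e => hne (hf.1.1 (hη.trans e)).symm
    rw [e1, sum_inv_eq_single _ η (fun χ hne => by rw [hμ χ hne, mul_zero])] at e2
    rw [← hηξ, hf.mul_self η] at e2
    obtain ⟨χ, hχ, hχ0⟩ := Finset.exists_ne_zero_of_sum_ne_zero
      (fun h0 => one_ne_zero (e2.trans h0))
    have hχP := (Finset.mem_filter.1 hχ).2
    refine ⟨⟨χ, hχP⟩, Subtype.ext ?_⟩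
    by_contra hne
    have h0 : μ p h χ ξ.1 = 0 := (hf.2 ⟨χ, hχP.mono hAP⟩).2 ⟨ξ.1, ξ.2.mono hAP⟩
      fun e => hne (congrArg Subtype.val e).symm
    exact hχ0 (by rw [hηξ, h0, mul_zero])
  · exact Subtype.ext (congrArg (fun x : InvIrr A C => x.1) e :)

/-- Composition of correspondences. -/
theorem IsCor.trans {h₁ : C₁ ≤ K} {h₂ : C ≤ C₁} {f₁ : InvIrr P K → InvIrr P C₁}
    {f₂ : InvIrr P C₁ → InvIrr P C} (hf₁ : IsCor p P h₁ f₁) (hf₂ : IsCor p P h₂ f₂)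
    (hP : IsPGroup p P) (hK : ∀ x ∈ P, Normalises x K) (hC₁ : ∀ x ∈ P, Normalises x C₁)
    (hC : ∀ x ∈ P, Normalises x C) : IsCor p P (h₂.trans h₁) (f₂ ∘ f₁) := by
  classical
  refine ⟨hf₂.1.comp hf₁.1, ?_⟩
  intro χ
  have key : ∀ ξ : InvIrr P C, μ p (h₂.trans h₁) χ.1 ξ.1 =
      μ p h₁ χ.1 (f₁ χ).1 * μ p h₂ (f₁ χ).1 ξ.1 := by
    intro ξ
    have e0 : μ p (h₂.trans h₁) χ.1 ξ.1 =
        ∑ η : IrrCharacter C₁, μ p h₁ χ.1 η * μ p h₂ η ξ.1 := by
      unfold μ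
      rw [Glauberman.charMult_trans h₁ h₂ (Chars.irr_isCharacter χ.1) ξ.1]
      push_cast
      rfl
    rw [e0, sum_eq_sum_inv hP hC₁ _ fun x hx η η' e => by
      rw [μ_conj (hK x hx) (hC₁ x hx) h₁ (χ.2 x hx) e,
        μ_conj (hC₁ x hx) (hC x hx) h₂ e (ξ.2 x hx)]]
    exact sum_inv_eq_single _ (f₁ χ) fun η hne => by rw [(hf₁.2 χ).2 η hne, zero_mul]
  refine ⟨?_, fun ξ hne => by rw [key, (hf₂.2 (f₁ χ)).2 ξ hne, mul_zero]⟩
  rw [key]
  rcases (hf₁.2 χ).1 with e | e <;> rcases (hf₂.2 (f₁ χ)).1 with e' | e' <;>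
    simp only [Function.comp_apply, e, e'] <;> simp

theorem exists_cor_refl (h : C ≤ K) (hCK : C = K) :
    ∃ f : InvIrr P K → InvIrr P C, IsCor p P h f := by
  classical
  subst hCK
  have hres : ∀ χ : IrrCharacter C, resSub h (χ : C → ℂ) = (χ : C → ℂ) := fun χ => rfl
  refine ⟨id, Function.bijective_id, fun χ => ⟨Or.inl ?_, fun ξ hne => ?_⟩⟩
  · rw [μ, hres, Glauberman.charMult_irr]; simp
  · rw [μ, hres, Glauberman.charMult_irr, if_neg fun e => hne (Subtype.ext e.symm)]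
    simp

/-- The degrees agree up to sign modulo `p`. -/
theorem IsCor.degree {h : C ≤ K} {f : InvIrr P K → InvIrr P C} (hf : IsCor p P h f)
    (hP : IsPGroup p P) (hK : ∀ x ∈ P, Normalises x K) (hC : ∀ x ∈ P, Normalises x C) (χ) :
    (charDegree ((f χ).1 : C → ℂ) : ZMod p) = (charDegree (χ.1 : K → ℂ) : ZMod p) ∨
      (charDegree ((f χ).1 : C → ℂ) : ZMod p) = -(charDegree (χ.1 : K → ℂ) : ZMod p) := by
  classical
  have hdeg : ∀ {H : Subgroup G} (ψ : IrrCharacter H),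
      (ψ : H → ℂ) 1 = (charDegree (ψ : H → ℂ) : ℂ) := by
    intro H ψ
    obtain ⟨n, hn⟩ := Chars.isCharacter_exists_degree (Chars.irr_isCharacter ψ)
    simp [charDegree, hn]
  have e := congrFun (Glauberman.eq_sum_charMult
    (Glauberman.isCharacter_resSub h (Chars.irr_isCharacter χ.1))) (1 : C)
  simp only [Finset.sum_apply, Pi.smul_apply, smul_eq_mul, Glauberman.resSub_apply, hdeg] at e
  rw [show (⟨((1 : C) : G), h (1 : C).2⟩ : K) = 1 from rfl, hdeg] at e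
  have e' : charDegree (χ.1 : K → ℂ) = ∑ ξ : IrrCharacter C,
      charMult (resSub h (χ.1 : K → ℂ)) (ξ : C → ℂ) * charDegree (ξ : C → ℂ) := by exact_mod_cast e
  have e2 : (charDegree (χ.1 : K → ℂ) : ZMod p) =
      ∑ ξ : IrrCharacter C, μ p h χ.1 ξ * (charDegree (ξ : C → ℂ) : ZMod p) := by
    rw [e']; push_cast; rfl
  rw [sum_eq_sum_inv hP hC _ fun x hx ξ ξ' hc => by
      rw [μ_conj (hK x hx) (hC x hx) h (χ.2 x hx) hc]
      simp only [charDegree, hc 1 1 (by simp)],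
    sum_inv_eq_single _ (f χ) fun ξ hne => by rw [(hf.2 χ).2 ξ hne, zero_mul]] at e2
  rcases (hf.2 χ).1 with e3 | e3 <;> rw [e3] at e2
  · left; rw [e2, one_mul]
  · right; rw [e2]; ring

/-- One operator. -/
theorem exists_cor_zpowers {s : G} {a m : ℕ} (hs : orderOf s = p ^ a) (hpm : ¬ p ∣ m)
    (hK : Normalises s K) (hsQ : ∀ q ∈ Q, s * q * s⁻¹ ∈ Q)
    (hQn : ∀ k ∈ K, ∀ q ∈ Q, k * q * k⁻¹ ∈ Q) (hm : ∀ k ∈ K, k ^ m ∈ Q) (hCK : C ≤ K)
    (hC : ∀ k, k ∈ C ↔ k ∈ K ∧ s * k * s⁻¹ * k⁻¹ ∈ Q) :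
    ∃ f : InvIrr (Subgroup.zpowers s) K → InvIrr (Subgroup.zpowers s) C,
      IsCor p (Subgroup.zpowers s) hCK f := by
  classical
  have hp : p.Prime := Fact.out
  have hSK : Subgroup.zpowers s ≤ Subgroup.normalizer (K : Set G) :=
    Subgroup.zpowers_le.2 (Subgroup.mem_normalizer_iff.2 hK)
  let φ : Subgroup.zpowers s →* MulAut K :=
    K.normalizerMonoidHom.comp (Subgroup.inclusion hSK)
  have hφ : ∀ (u : Subgroup.zpowers s) (k : K), ((φ u k : K) : G) = u * k * (u : G)⁻¹ :=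
    fun u k => rfl
  let Γ := K ⋊[φ] Subgroup.zpowers s
  haveI : Finite Γ := Finite.of_equiv _ (SemidirectProduct.equivProd (φ := φ)).symm
  let ι : K →* Γ := SemidirectProduct.inl
  let s' : Subgroup.zpowers s := ⟨s, Subgroup.mem_zpowers s⟩
  let t : Γ := SemidirectProduct.inr s'
  have hN : 0 < p ^ a := pow_pos hp.pos a
  have hs' : orderOf s' = p ^ a := by rw [← hs, ← Subgroup.orderOf_coe s']
  have hgen : ∀ u : Subgroup.zpowers s, u ∈ Subgroup.zpowers s' := fun u => by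
    obtain ⟨i, hi⟩ := Subgroup.mem_zpowers_iff.1 u.2
    exact ⟨i, Subtype.ext (by simpa using hi)⟩
  have hζ := Complex.isPrimitiveRoot_exp (p ^ a) hN.ne'
  obtain ⟨z, hz⟩ := hζ.isUnit hN.ne'
  have hzo : IsPrimitiveRoot (z : ℂ) (p ^ a) := by rw [hz]; exact hζ
  have hzord : orderOf z ∣ orderOf s' := by
    rw [hs', ← orderOf_units]
    exact (hzo.eq_orderOf).symm.dvd
  let χ₀ : Subgroup.zpowers s →* ℂˣ := monoidHomOfForallMemZpowers hgen hzord
  have hχ₀ : χ₀ s' = z := monoidHomOfForallMemZpowers_apply_gen hgen hzord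
  let lam : Γ →* ℂˣ := χ₀.comp SemidirectProduct.rightHom
  have hlam : ∀ w : Γ, lam w = 1 ↔ w ∈ ι.range := by
    intro w
    rw [show ι.range = SemidirectProduct.rightHom.ker from
      SemidirectProduct.range_inl_eq_ker_rightHom, MonoidHom.mem_ker]
    show χ₀ w.right = 1 ↔ w.right = 1
    refine ⟨fun e => ?_, fun e => by rw [e, map_one]⟩
    obtain ⟨i, hi⟩ := Subgroup.mem_zpowers_iff.1 (hgen w.right)
    rw [← hi, map_zpow, hχ₀, ← orderOf_dvd_iff_zpow_eq_one] at e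
    rw [← hi, ← orderOf_dvd_iff_zpow_eq_one, hs']
    rwa [← orderOf_units, ← hzo.eq_orderOf] at e
  let Q' : Subgroup Γ := (Q.subgroupOf K).map ι
  have hmem : ∀ k : K, ι k ∈ Q' ↔ (k : G) ∈ Q := fun k =>
    (Subgroup.mem_map_iff_mem SemidirectProduct.inl_injective).trans Subgroup.mem_subgroupOf
  have hzQ : ∀ u ∈ Subgroup.zpowers s, ∀ q ∈ Q, u * q * u⁻¹ ∈ Q := by
    let T : Subgroup G :=
      { carrier := {u | Normalises u Q}
        one_mem' := fun g => by simp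
        mul_mem' := fun h h' => Normalises.mul h h'
        inv_mem' := fun h => Normalises.inv h }
    have hsT : s ∈ T := Glauberman.normalises_of_mem hsQ
    exact fun u hu q hq => ((Subgroup.zpowers_le.2 hsT hu : Normalises u Q) q).1 hq
  haveI : Q'.Normal := ⟨by
    rintro _ ⟨q, hq, rfl⟩ w
    rw [← SemidirectProduct.inl_left_mul_inr_right w]
    have : ι w.left * SemidirectProduct.inr w.right * ι q * (ι w.left * SemidirectProduct.inr w.right)⁻¹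
        = ι (w.left * φ w.right q * w.left⁻¹) := by
      show _ = SemidirectProduct.inl (w.left * φ w.right q * w.left⁻¹)
      rw [map_mul, map_mul, SemidirectProduct.inl_aut, map_inv, map_inv]
      simp only [ι, mul_inv_rev, mul_assoc]
    show ι w.left * SemidirectProduct.inr w.right * ι q * (ι w.left * SemidirectProduct.inr w.right)⁻¹ ∈ Q'
    rw [this, hmem]
    simp only [Subgroup.coe_mul, Subgroup.coe_inv, hφ]
    exact hQn _ w.left.2 _ (hzQ _ w.right.2 _ hq)⟩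
  let κ : C →* K := Subgroup.inclusion hCK
  have hcomm : ∀ k : K, t * ι k * t⁻¹ = ι (φ s' k) := fun k => by
    show _ = SemidirectProduct.inl (φ s' k)
    rw [SemidirectProduct.inl_aut, map_inv]
  have S : Setting p a ι κ t lam Q' := by
    refine ⟨hp, ⟨hN, SemidirectProduct.inl_injective, hlam, ?_, fun w => ?_⟩, ?_, ?_, fun k => ?_,
      m, hpm, fun k => ?_⟩
    · show IsPrimitiveRoot ((χ₀ (SemidirectProduct.rightHom t) : ℂˣ) : ℂ) _
      rw [SemidirectProduct.rightHom_inr, hχ₀]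
      exact hzo
    · obtain ⟨j, hj⟩ := mem_powers_iff_mem_zpowers.2 (hgen w.right)
      refine ⟨w.left, j, ?_⟩
      simp only [ι, t, ← map_pow]
      rw [show s' ^ j = w.right from hj, SemidirectProduct.inl_left_mul_inr_right]
    · rw [← map_pow, ← hs', pow_orderOf_eq_one, map_one]
    · exact Subgroup.inclusion_injective hCK
    · rw [hcomm, ← map_inv, ← map_mul, hmem, Subgroup.coe_mul, Subgroup.coe_inv, hφ]
      constructor
      · rintro ⟨c, rfl⟩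
        exact ((hC c).1 c.2).2
      · exact fun h => ⟨⟨k, (hC k).2 ⟨k.2, h⟩⟩, rfl⟩
    · rw [← map_pow, hmem, Subgroup.coe_pow]
      exact hm k k.2
  have hfixK : ∀ χ : IrrCharacter K,
      IsFix ι t (χ : K → ℂ) ↔ IsInv (Subgroup.zpowers s) (χ : K → ℂ) := fun χ => by
    constructor
    · refine fun h => Glauberman.isInv_zpowers_of hK fun g g' e => h g g' ?_
      rw [hcomm]
      exact congrArg ι (Subtype.ext (by rw [e, hφ]))
    · intro h g g' e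
      rw [hcomm] at e
      exact h s (Subgroup.mem_zpowers s) g g'
        (by rw [SemidirectProduct.inl_injective e, hφ])
  have hsC : Normalises s C := Glauberman.normalises_of_mem fun c hc => by
    have h1 := ((hC c).1 hc).2
    have h2 : s * c * s⁻¹ ∈ K := ((hK c).1 (hCK hc))
    refine (hC _).2 ⟨h2, ?_⟩
    have := hsQ _ h1
    simpa [mul_assoc] using this
  have hfixC : ∀ ξ : IrrCharacter C,
      IsFix (ι.comp κ) t (ξ : C → ℂ) ↔ IsInv (Subgroup.zpowers s) (ξ : C → ℂ) := fun ξ => by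
    constructor
    · refine fun h => Glauberman.isInv_zpowers_of hsC fun g g' e => h g g' ?_
      show ι (κ g') = t * ι (κ g) * t⁻¹
      rw [hcomm]
      exact congrArg ι (Subtype.ext (by rw [hφ]; exact e))
    · intro h g g' e
      simp only [MonoidHom.comp_apply, hcomm] at e
      refine h s (Subgroup.mem_zpowers s) g g' ?_
      have := congrArg Subtype.val (SemidirectProduct.inl_injective e)
      rwa [hφ] at this
  haveI := Fintype.ofFinite C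
  obtain ⟨f, hf, hmul⟩ := S.exists_corr
  let eK := Equiv.subtypeEquivRight hfixK
  let eC := Equiv.subtypeEquivRight hfixC
  refine ⟨eC ∘ f ∘ eK.symm, eC.bijective.comp (hf.comp eK.symm.bijective), fun χ => ⟨?_, ?_⟩⟩
  · obtain ⟨n, hn, h1, -⟩ := hmul (eK.symm χ) (f (eK.symm χ))
    have e : charMult (resSub hCK (χ.1 : K → ℂ)) (((eC ∘ f ∘ eK.symm) χ).1 : C → ℂ) = n :=
      Glauberman.charMult_eq_of hn
    rw [μ, e]
    exact h1 rfl
  · intro ξ hne
    obtain ⟨n, hn, -, h2⟩ := hmul (eK.symm χ) (eC.symm ξ)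
    have e : charMult (resSub hCK (χ.1 : K → ℂ)) (ξ.1 : C → ℂ) = n :=
      Glauberman.charMult_eq_of hn
    rw [μ, e, ZMod.natCast_eq_zero_iff]
    exact h2 fun e => hne (by
      show ξ = eC (f (eK.symm χ))
      rw [← e, Equiv.apply_symm_apply])

/-- The commutator fixed points modulo `Q`. -/
def fixIn (K Q P : Subgroup G) (hQn : ∀ k ∈ K, ∀ q ∈ Q, k * q * k⁻¹ ∈ Q) : Subgroup G where
  carrier := {k | k ∈ K ∧ ∀ x ∈ P, x * k * x⁻¹ * k⁻¹ ∈ Q}
  one_mem' := ⟨K.one_mem, fun x _ => by simp⟩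
  mul_mem' := fun {a b} ha hb => ⟨K.mul_mem ha.1 hb.1, fun x hx => by
    have := Q.mul_mem (ha.2 x hx) (hQn a ha.1 _ (hb.2 x hx))
    simpa [mul_assoc] using this⟩
  inv_mem' := fun {a} ha => ⟨K.inv_mem ha.1, fun x hx => by
    have := hQn a⁻¹ (K.inv_mem ha.1) _ (Q.inv_mem (ha.2 x hx))
    simpa [mul_assoc] using this⟩

omit [Finite G] in
theorem mem_fixIn {hQn : ∀ k ∈ K, ∀ q ∈ Q, k * q * k⁻¹ ∈ Q} {k : G} :
    k ∈ fixIn K Q P hQn ↔ k ∈ K ∧ ∀ x ∈ P, x * k * x⁻¹ * k⁻¹ ∈ Q := Iff.rfl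

omit [Finite G] in
theorem mem_of_sup {T S : Subgroup G} {k : G}
    (hQP : ∀ x ∈ P, Normalises x Q) (hTS : T ⊔ S = P)
    (hT : ∀ x ∈ T, x * k * x⁻¹ * k⁻¹ ∈ Q) (hS : ∀ x ∈ S, x * k * x⁻¹ * k⁻¹ ∈ Q) :
    ∀ x ∈ P, x * k * x⁻¹ * k⁻¹ ∈ Q := by
  let U : Subgroup G :=
    { carrier := {x | Normalises x Q ∧ x * k * x⁻¹ * k⁻¹ ∈ Q}
      one_mem' := ⟨fun g => by simp, by simp⟩
      mul_mem' := fun {a b} ha hb => ⟨ha.1.mul hb.1, by
        have := Q.mul_mem ((ha.1 _).1 hb.2) ha.2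
        simpa [mul_assoc] using this⟩
      inv_mem' := fun {a} ha => ⟨ha.1.inv, by
        have := (ha.1.inv _).1 (Q.inv_mem ha.2)
        simpa [mul_assoc] using this⟩ }
  have : P ≤ U := hTS ▸ sup_le (fun x hx => ⟨hQP x (hTS ▸ Subgroup.mem_sup_left hx), hT x hx⟩)
    (fun x hx => ⟨hQP x (hTS ▸ Subgroup.mem_sup_right hx), hS x hx⟩)
  exact fun x hx => (this hx).2

theorem normalises_fixed {P₁ : Subgroup G} (hP₁n : ∀ x ∈ P, ∀ y ∈ P₁, x⁻¹ * y * x ∈ P₁)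
    (hPK : ∀ x ∈ P, Normalises x K) (hPQ : ∀ x ∈ P, Normalises x Q) {C : Subgroup G}
    (hC : ∀ k, k ∈ C ↔ k ∈ K ∧ ∀ x ∈ P₁, x * k * x⁻¹ * k⁻¹ ∈ Q) :
    ∀ x ∈ P, Normalises x C := fun x hx => Glauberman.normalises_of_mem fun c hc => by
  obtain ⟨hcK, hc'⟩ := (hC c).1 hc
  refine (hC _).2 ⟨(hPK x hx c).1 hcK, fun y hy => ?_⟩
  have := (hPQ x hx _).1 (hc' _ (hP₁n x hx y hy))
  simpa [mul_assoc] using this

/-- The correspondence for a `p`-group. -/
theorem exists_cor {m : ℕ} (hpm : ¬ p ∣ m) (hQn : ∀ k ∈ K, ∀ q ∈ Q, k * q * k⁻¹ ∈ Q)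
    (hm : ∀ k ∈ K, k ^ m ∈ Q) (n : ℕ) : ∀ P : Subgroup G, Nat.card P = n → IsPGroup p P →
      (∀ x ∈ P, Normalises x K) → (∀ x ∈ P, Normalises x Q) → ∀ (C : Subgroup G) (hCK : C ≤ K),
      (∀ k, k ∈ C ↔ k ∈ K ∧ ∀ x ∈ P, x * k * x⁻¹ * k⁻¹ ∈ Q) →
      ∃ f : InvIrr P K → InvIrr P C, IsCor p P hCK f := by
  induction n using Nat.strong_induction_on with | _ n ih => ?_
  intro P hn hP hPK hPQ C hCK hC
  by_cases hbot : P = ⊥
  · refine exists_cor_refl hCK (le_antisymm hCK fun k hk => (hC k).2 ⟨hk, fun x hx => ?_⟩)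
    rw [hbot, Subgroup.mem_bot] at hx
    subst hx
    simp
  haveI : Nontrivial P := (Subgroup.nontrivial_iff_ne_bot P).2 hbot
  obtain ⟨M, hM, -⟩ : ∃ M : Subgroup P, IsCoatom M ∧ (⊥ : Subgroup P) ≤ M :=
    (eq_top_or_exists_le_coatom (⊥ : Subgroup P)).resolve_left bot_ne_top
  haveI : Group.IsNilpotent P := hP.isNilpotent
  have hMn : M.Normal := Subgroup.NormalizerCondition.normal_of_coatom M
    normalizerCondition_of_isNilpotent hM
  obtain ⟨s, hs⟩ := SetLike.exists_not_mem_of_ne_top M hM.1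
  have htop : M ⊔ Subgroup.zpowers s = ⊤ := hM.2 _ (left_lt_sup.2 fun h =>
    hs (h (Subgroup.mem_zpowers s)))
  set P₁ := M.map P.subtype with hP₁
  have hle : P₁ ≤ P := Subgroup.map_subtype_le M
  have hsup : P₁ ⊔ Subgroup.zpowers (s : G) = P := by
    have := congrArg (Subgroup.map P.subtype) htop
    rwa [Subgroup.map_sup, MonoidHom.map_zpowers, ← MonoidHom.range_eq_map,
      Subgroup.range_subtype] at this
  have hcard : Nat.card P₁ < n := by
    rw [hP₁, Subgroup.card_subtype, ← hn]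
    exact lt_of_le_of_ne M.card_le_card_group fun e => hM.1 (Subgroup.eq_top_of_card_eq M e)
  have hP₁n : ∀ x ∈ P, ∀ y ∈ P₁, x⁻¹ * y * x ∈ P₁ := by
    rintro x hx _ ⟨y, hy, rfl⟩
    refine ⟨(⟨x, hx⟩ : P)⁻¹ * y * ⟨x, hx⟩, ?_, by simp⟩
    have := hMn.conj_mem y hy (⟨x, hx⟩ : P)⁻¹
    rwa [inv_inv] at this
  set C₁ := fixIn K Q P₁ hQn with hC₁
  have hC₁K : C₁ ≤ K := fun k hk => hk.1
  have hPC₁ : ∀ x ∈ P, Normalises x C₁ := normalises_fixed hP₁n hPK hPQ fun k => mem_fixIn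
  have hPC : ∀ x ∈ P, Normalises x C :=
    normalises_fixed (fun x hx y hy => P.mul_mem (P.mul_mem (P.inv_mem hx) hy) hx) hPK hPQ hC
  have hCC₁ : C ≤ C₁ := fun k hk =>
    ⟨hCK hk, fun x hx => ((hC k).1 hk).2 x (hle hx)⟩
  have hS : Subgroup.zpowers (s : G) ≤ P := Subgroup.zpowers_le.2 s.2
  obtain ⟨f₁, hf₁⟩ := ih _ hcard P₁ rfl (hP.to_le hle) (fun x hx => hPK x (hle hx))
    (fun x hx => hPQ x (hle hx)) C₁ hC₁K fun k => mem_fixIn
  obtain ⟨f₁', hf₁'⟩ := hf₁.mono hle hP hPK hPC₁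
  obtain ⟨a, ha⟩ := (IsPGroup.iff_orderOf.1 hP) s
  rw [← Subgroup.orderOf_coe] at ha
  obtain ⟨f₂, hf₂⟩ := exists_cor_zpowers (K := C₁) (C := C) (Q := Q) ha hpm (hPC₁ _ s.2)
    (fun q hq => (hPQ _ s.2 q).1 hq) (fun k hk => hQn k hk.1) (fun k hk => hm k hk.1) hCC₁
    fun k => ⟨fun hk => ⟨hCC₁ hk, ((hC k).1 hk).2 _ s.2⟩, fun ⟨hk, hks⟩ =>
      (hC k).2 ⟨hk.1, mem_of_sup hPQ hsup hk.2 (by
        intro x hx
        obtain ⟨i, hi⟩ := mem_powers_iff_mem_zpowers.2 hx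
        subst hi
        clear hx
        induction i with
        | zero => simp
        | succ i ih =>
          have := Q.mul_mem ((hPQ _ s.2 _).1 ih) hks
          simpa [pow_succ', mul_assoc] using this)⟩⟩
  obtain ⟨f₂', hf₂'⟩ := hf₂.mono hS hP hPC₁ hPC
  exact ⟨_, hf₁'.trans hf₂' hP hPK hPC₁ hPC⟩

end Cfsg.Agent.Lib.SylowCorr
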